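import Mathlib.RingTheory.Polynomial.Basic
import Mathlib.RingTheory.Flat.Basic
import Mathlib.LinearAlgebra.TensorProduct.RightExactness
import Mathlib.LinearAlgebra.TensorProduct.Pi
import Mathlib.Algebra.Module.LocalizedModule.Basic
import Mathlib.RingTheory.Ideal.Quotient.Operations
import Mathlib.LinearAlgebra.Pi

/-!
# Vectors of polynomials up to localization, and colon ideals on flat modules
-/

set_option autoImplicit false
noncomputable section

universe u

open MvPolynomial TensorProduct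

namespace Groth.Agent.H10.UInj.Base

variable {A B : Type u} [CommRing A] [CommRing B] {n r : ℕ}

/-- Vectors of polynomials. -/
abbrev Vec (A : Type u) [CommRing A] (n r : ℕ) : Type u := Fin r → MvPolynomial (Fin n) A

/-- Vectors with all coefficients in an ideal. -/
def jv (J : Ideal A) : Submodule (MvPolynomial (Fin n) A) (Vec A n r) :=
  Submodule.pi Set.univ fun _ => J.map C

theorem mem_jv {J : Ideal A} {v : Vec A n r} : v ∈ jv J ↔ ∀ i m, coeff m (v i) ∈ J := by
  simp [jv, Submodule.mem_pi, mem_map_C_iff]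

theorem jv_mono {J J' : Ideal A} (h : J ≤ J') : (jv J : Submodule _ (Vec A n r)) ≤ jv J' :=
  fun _ hv => mem_jv.2 fun i m => h (mem_jv.1 hv i m)

theorem jv_bot : (jv (⊥ : Ideal A) : Submodule _ (Vec A n r)) = ⊥ := by
  refine (Submodule.eq_bot_iff _).2 fun v hv => funext fun i => MvPolynomial.ext _ _ fun m => ?_
  simpa using mem_jv.1 hv i m

theorem C_smul_mem_jv {J : Ideal A} {a : A} (ha : a ∈ J) (v : Vec A n r) :
    (C a : MvPolynomial (Fin n) A) • v ∈ jv J :=
  mem_jv.2 fun i m => by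
    rw [Pi.smul_apply, smul_eq_mul, coeff_C_mul]; exact J.mul_mem_right _ ha

theorem C_smul_jv {J J' : Ideal A} {a : A} (ha : ∀ b ∈ J, a * b ∈ J') {v : Vec A n r} (hv : v ∈ jv J) :
    (C a : MvPolynomial (Fin n) A) • v ∈ jv J' :=
  mem_jv.2 fun i m => by
    rw [Pi.smul_apply, smul_eq_mul, coeff_C_mul]; exact ha _ (mem_jv.1 hv i m)

/-- Change of coefficients. -/
def mapV (φ : A →+* B) (v : Vec A n r) : Vec B n r := fun i => map φ (v i)

variable (φ : A →+* B)

theorem mapV_zero : mapV φ (0 : Vec A n r) = 0 := funext fun _ => map_zero _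

theorem mapV_add (v w : Vec A n r) : mapV φ (v + w) = mapV φ v + mapV φ w := funext fun _ => map_add _ _ _

theorem mapV_sub (v w : Vec A n r) : mapV φ (v - w) = mapV φ v - mapV φ w := funext fun _ => map_sub _ _ _

theorem mapV_smul (s : MvPolynomial (Fin n) A) (v : Vec A n r) : mapV φ (s • v) = map φ s • mapV φ v :=
  funext fun i => map_mul _ s (v i)

theorem mapV_eq_zero {v : Vec A n r} : mapV φ v = 0 ↔ v ∈ jv (RingHom.ker φ) := by
  simp only [funext_iff, mapV, MvPolynomial.ext_iff, coeff_map, Pi.zero_apply, coeff_zero, mem_jv, RingHom.mem_ker]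

theorem mapV_mem_jv {J : Ideal A} {v : Vec A n r} (hv : v ∈ jv J) : mapV φ v ∈ jv (J.map φ) :=
  mem_jv.2 fun i m => by rw [mapV, coeff_map]; exact Ideal.mem_map_of_mem _ (mem_jv.1 hv i m)

theorem mapV_mem_span {R : Set (Vec A n r)} {v : Vec A n r}
    (hv : v ∈ Submodule.span (MvPolynomial (Fin n) A) R) :
    mapV φ v ∈ Submodule.span (MvPolynomial (Fin n) B) (mapV φ '' R) := by
  induction hv using Submodule.span_induction with
  | mem w hw => exact Submodule.subset_span ⟨w, hw, rfl⟩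
  | zero => rw [mapV_zero]; exact zero_mem _
  | add a b _ _ ha hb => rw [mapV_add]; exact add_mem ha hb
  | smul s a _ ha => rw [mapV_smul]; exact Submodule.smul_mem _ _ ha

/-- Membership in relations plus an ideal, up to elements outside a prime. -/
def Mem (q : Ideal (MvPolynomial (Fin n) A)) (R : Set (Vec A n r)) (J : Ideal A) (v : Vec A n r) : Prop :=
  ∃ s, s ∉ q ∧ s • v ∈ Submodule.span (MvPolynomial (Fin n) A) R ⊔ jv J

variable {q : Ideal (MvPolynomial (Fin n) A)} {R : Set (Vec A n r)} {J : Ideal A}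

theorem Mem.mono {J' : Ideal A} (h : J ≤ J') {v : Vec A n r} (hv : Mem q R J v) : Mem q R J' v := by
  obtain ⟨s, hs, hv⟩ := hv
  exact ⟨s, hs, sup_le_sup_left (jv_mono h) _ hv⟩

theorem Mem.smul {v : Vec A n r} (hv : Mem q R J v) (c : MvPolynomial (Fin n) A) : Mem q R J (c • v) := by
  obtain ⟨s, hs, hv⟩ := hv
  exact ⟨s, hs, by rw [smul_comm]; exact Submodule.smul_mem _ _ hv⟩

theorem Mem.add [hq : q.IsPrime] {v w : Vec A n r} (hv : Mem q R J v) (hw : Mem q R J w) : Mem q R J (v + w) := by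
  obtain ⟨s, hs, hv⟩ := hv
  obtain ⟨t, ht, hw⟩ := hw
  refine ⟨s * t, fun h => (hq.mem_or_mem h).elim hs ht, ?_⟩
  rw [smul_add]
  refine add_mem ?_ ?_
  · rw [mul_comm, mul_smul]; exact Submodule.smul_mem _ _ hv
  · rw [mul_smul]; exact Submodule.smul_mem _ _ hw

theorem Mem.sub [q.IsPrime] {v w : Vec A n r} (hv : Mem q R J v) (hw : Mem q R J w) : Mem q R J (v - w) := by
  rw [sub_eq_add_neg, ← neg_one_smul (MvPolynomial (Fin n) A) w]; exact hv.add (hw.smul _)

theorem mem_of_mem_jv [hq : q.IsPrime] {v : Vec A n r} (hv : v ∈ jv J) : Mem q R J v :=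
  ⟨1, fun h => hq.ne_top ((Ideal.eq_top_iff_one q).2 h), by
    rw [one_smul]; exact Submodule.mem_sup_right hv⟩

theorem Mem.of_smul [hq : q.IsPrime] {t : MvPolynomial (Fin n) A} (ht : t ∉ q) {v : Vec A n r}
    (hv : Mem q R J (t • v)) : Mem q R J v := by
  obtain ⟨s, hs, hv⟩ := hv
  exact ⟨s * t, fun h => (hq.mem_or_mem h).elim hs ht, by rwa [mul_smul]⟩

/-- Colon ideals on a flat module. -/
theorem exists_colon {N : Type u} [AddCommGroup N] [Module A N] [Module.Flat A N] {ι : Type u} [Fintype ι]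
    (J : Ideal A) (c : ι → A) (x : N) (h : ∀ i, c i • x ∈ J • (⊤ : Submodule A N)) :
    ∃ K : Ideal A, (∀ a, a ∈ K ↔ ∀ i, a * c i ∈ J) ∧ x ∈ K • (⊤ : Submodule A N) := by
  classical
  let L : A →ₗ[A] (ι → A ⧸ J) := LinearMap.pi fun i => J.mkQ.comp (LinearMap.toSpanSingleton A A (c i))
  refine ⟨LinearMap.ker L, fun a => ?_, ?_⟩
  · simp [L, funext_iff, ← map_mul, Ideal.Quotient.eq_zero_iff_mem]
  have hex : Function.Exact (LinearMap.ker L).subtype L := LinearMap.exact_subtype_ker_map L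
  have hexT := Module.Flat.lTensor_exact N hex
  have h0 : L.lTensor N (x ⊗ₜ[A] (1 : A)) = 0 := by
    apply (TensorProduct.piRight A A N (fun _ : ι => A ⧸ J)).injective
    ext i
    rw [LinearMap.lTensor_tmul, map_zero, Pi.zero_apply, TensorProduct.piRight_apply,
      TensorProduct.piRightHom_tmul]
    show x ⊗ₜ[A] (L 1 i) = 0
    have : L 1 i = (c i) • Submodule.Quotient.mk (1 : A) := by
      show Submodule.Quotient.mk ((1 : A) * c i) = _
      rw [← Submodule.Quotient.mk_smul, smul_eq_mul, one_mul, mul_one]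
    rw [this, TensorProduct.tmul_smul, TensorProduct.smul_tmul']
    refine Submodule.smul_induction_on (h i) (fun a ha y _ => ?_) fun a b ha hb => by
      rw [TensorProduct.add_tmul, ha, hb, add_zero]
    rw [TensorProduct.smul_tmul, ← Submodule.Quotient.mk_smul, (Submodule.Quotient.mk_eq_zero J).2,
      TensorProduct.tmul_zero]
    rw [smul_eq_mul, mul_one]; exact ha
  obtain ⟨y, hy⟩ := (hexT _).1 h0
  have hmem : ∀ y, TensorProduct.rid A N ((LinearMap.ker L).subtype.lTensor N y) ∈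
      (LinearMap.ker L) • (⊤ : Submodule A N) := fun y => by
    induction y using TensorProduct.induction_on with
    | zero => simp
    | add a b ha hb => simp only [map_add]; exact add_mem ha hb
    | tmul z k =>
      rw [LinearMap.lTensor_tmul, TensorProduct.rid_tmul]
      exact Submodule.smul_mem_smul k.2 trivial
  have := hmem y
  rwa [hy, TensorProduct.rid_tmul, one_smul] at this

/-- Colon ideal of a single element on a flat module. -/
theorem mem_of_smul_mem {N : Type u} [AddCommGroup N] [Module A N] [Module.Flat A N] (J K : Ideal A) (c : A)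
    (hK : ∀ a, a * c ∈ J → a ∈ K) (x : N) (h : c • x ∈ J • (⊤ : Submodule A N)) :
    x ∈ K • (⊤ : Submodule A N) := by
  obtain ⟨K', hK', hx⟩ := exists_colon J (fun _ : PUnit.{u + 1} => c) x fun _ => h
  exact Submodule.smul_mono_left (fun a ha => hK a ((hK' a).1 ha PUnit.unit)) hx

/-- A module presented by polynomial vectors up to localization at a prime. -/
structure IsPres (q : Ideal (MvPolynomial (Fin n) A)) (R : Set (Vec A n r)) {N : Type u} [AddCommGroup N]
    [Module (MvPolynomial (Fin n) A) N] (f : Vec A n r →ₗ[MvPolynomial (Fin n) A] N) : Prop where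
  surj : ∀ y, ∃ (v : Vec A n r) (s : MvPolynomial (Fin n) A), s ∉ q ∧ s • y = f v
  ker : ∀ v, f v = 0 ↔ ∃ s, s ∉ q ∧ s • v ∈ Submodule.span (MvPolynomial (Fin n) A) R
  bij : ∀ s, s ∉ q → Function.Bijective fun y : N => s • y

theorem isPres_of_isLocalizedModule [hq : q.IsPrime] {N : Type u} [AddCommGroup N]
    [Module (MvPolynomial (Fin n) A) N]
    (l : (Vec A n r ⧸ Submodule.span (MvPolynomial (Fin n) A) R) →ₗ[MvPolynomial (Fin n) A] N)
    [IsLocalizedModule q.primeCompl l] :
    IsPres q R (l.comp (Submodule.span (MvPolynomial (Fin n) A) R).mkQ) where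
  surj y := by
    obtain ⟨⟨z, s⟩, hs⟩ := IsLocalizedModule.surj q.primeCompl l y
    obtain ⟨v, rfl⟩ := Submodule.mkQ_surjective _ z
    exact ⟨v, s, s.2, hs⟩
  ker v := by
    rw [LinearMap.comp_apply, IsLocalizedModule.eq_zero_iff q.primeCompl l]
    constructor
    · rintro ⟨⟨s, hs⟩, hsv⟩
      refine ⟨s, hs, ?_⟩
      exact (Submodule.Quotient.mk_eq_zero (Submodule.span (MvPolynomial (Fin n) A) R)).1 hsv
    · rintro ⟨s, hs, hsv⟩
      exact ⟨⟨s, hs⟩, by
        show s • (Submodule.span (MvPolynomial (Fin n) A) R).mkQ v = 0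
        rw [← map_smul]
        exact (Submodule.Quotient.mk_eq_zero (Submodule.span (MvPolynomial (Fin n) A) R)).2 hsv⟩
  bij s hs := (Module.End.isUnit_iff _).1 (IsLocalizedModule.map_units l (⟨s, hs⟩ : q.primeCompl))

variable {N : Type u} [AddCommGroup N] [Module (MvPolynomial (Fin n) A) N] [Module A N]
  [IsScalarTower A (MvPolynomial (Fin n) A) N] {f : Vec A n r →ₗ[MvPolynomial (Fin n) A] N}

theorem map_mem_smul {v : Vec A n r} (hv : v ∈ jv J) : f v ∈ J • (⊤ : Submodule A N) := by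
  classical
  have hv' : v = ∑ i, ∑ m ∈ (v i).support, (coeff m (v i)) • (Pi.single i (monomial m 1) : Vec A n r) := by
    funext j
    simp only [Finset.sum_apply, Pi.smul_apply]
    rw [Finset.sum_eq_single j (fun i _ hi => by simp [Pi.single_eq_of_ne hi.symm]) (by simp)]
    conv_lhs => rw [as_sum (v j)]
    simp [Pi.single_eq_same, smul_monomial]
  rw [hv', map_sum]
  refine Submodule.sum_mem _ fun i _ => ?_
  rw [map_sum]
  refine Submodule.sum_mem _ fun m _ => ?_
  rw [LinearMap.map_smul_of_tower]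
  exact Submodule.smul_mem_smul (mem_jv.1 hv i m) trivial

theorem map_mem_smul_iff [hq : q.IsPrime] (hf : IsPres q R f) {v : Vec A n r} :
    f v ∈ J • (⊤ : Submodule A N) ↔ Mem q R J v := by
  constructor
  · intro h
    have key : ∀ y ∈ J • (⊤ : Submodule A N), ∃ s, s ∉ q ∧ ∃ w ∈ jv J, s • y = f w := by
      intro y hy
      refine Submodule.smul_induction_on hy (fun a ha y _ => ?_) fun a b ha hb => ?_
      · obtain ⟨w, s, hs, hw⟩ := hf.surj y
        refine ⟨s, hs, (C a : MvPolynomial (Fin n) A) • w, C_smul_mem_jv ha w, ?_⟩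
        rw [map_smul, ← MvPolynomial.algebraMap_eq, algebraMap_smul, ← hw, smul_comm]
      · obtain ⟨s, hs, w, hw, h₁⟩ := ha
        obtain ⟨t, ht, w', hw', h₂⟩ := hb
        refine ⟨s * t, fun h => (hq.mem_or_mem h).elim hs ht, t • w + s • w',
          add_mem (Submodule.smul_mem _ _ hw) (Submodule.smul_mem _ _ hw'), ?_⟩
        rw [map_add, map_smul, map_smul, ← h₁, ← h₂, smul_add, smul_smul, smul_smul, mul_comm t s]
    obtain ⟨s, hs, w, hw, h₁⟩ := key _ h
    have h0 : f (s • v - w) = 0 := by rw [map_sub, map_smul, h₁, sub_self]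
    obtain ⟨t, ht, htv⟩ := (hf.ker _).1 h0
    refine ⟨t * s, fun h => (hq.mem_or_mem h).elim ht hs, ?_⟩
    have : (t * s) • v = t • (s • v - w) + t • w := by rw [smul_sub, mul_smul, sub_add_cancel]
    rw [this]
    exact add_mem (Submodule.mem_sup_left htv) (Submodule.mem_sup_right (Submodule.smul_mem _ _ hw))
  · rintro ⟨s, hs, hv⟩
    obtain ⟨a, ha, w, hw, hsum⟩ := Submodule.mem_sup.1 hv
    have h1 : s • f v ∈ J • (⊤ : Submodule A N) := by
      rw [← map_smul, ← hsum, map_add, (hf.ker a).2 ⟨1, fun h => hq.ne_top ((Ideal.eq_top_iff_one q).2 h),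
        by rw [one_smul]; exact ha⟩, zero_add]
      exact map_mem_smul hw
    let e : N ≃ₗ[A] N := LinearEquiv.ofBijective
      ((DistribSMul.toLinearMap A N s) : N →ₗ[A] N) (hf.bij s hs)
    have h2 : (J • (⊤ : Submodule A N)).map e.symm.toLinearMap ≤ J • ⊤ := by
      rw [Submodule.map_smul'']; exact Submodule.smul_mono le_rfl le_top
    have h3 := h2 ⟨_, h1, rfl⟩
    change e.symm (e (f v)) ∈ _ at h3
    rwa [e.symm_apply_apply] at h3

end Groth.Agent.H10.UInj.Base

namespace Groth.Agent.H10.UInj.Base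

variable {A B : Type u} [CommRing A] [CommRing B] {n r : ℕ} (φ : A →+* B) (W : Submonoid A)
  (hfrac : ∀ b : B, ∃ a, ∃ σ ∈ W, φ σ * b = φ a)

include hfrac in
theorem exists_poly_lift (p : MvPolynomial (Fin n) B) :
    ∃ σ ∈ W, ∃ p' : MvPolynomial (Fin n) A, C (φ σ) * p = map φ p' := by
  induction p using MvPolynomial.induction_on' with
  | monomial m b =>
    obtain ⟨a, σ, hσ, h⟩ := hfrac b
    exact ⟨σ, hσ, monomial m a, by rw [map_monomial, C_mul_monomial, h]⟩
  | add p q hp hq =>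
    obtain ⟨σ, hσ, p', hp⟩ := hp
    obtain ⟨τ, hτ, q', hq⟩ := hq
    refine ⟨σ * τ, W.mul_mem hσ hτ, C τ * p' + C σ * q', ?_⟩
    rw [map_add (MvPolynomial.map φ), map_mul (MvPolynomial.map φ), map_mul (MvPolynomial.map φ), map_C, map_C, ← hp, ← hq, map_mul φ, map_mul C]
    ring

include hfrac in
theorem exists_vec_lift (v : Vec B n r) :
    ∃ σ ∈ W, ∃ v' : Vec A n r, (C (φ σ) : MvPolynomial (Fin n) B) • v = mapV φ v' := by
  classical
  choose σ hσ p' hp using fun i => exists_poly_lift φ W hfrac (v i)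
  refine ⟨∏ i, σ i, W.prod_mem fun i _ => hσ i, fun i => C (∏ j ∈ Finset.univ.erase i, σ j) * p' i,
    funext fun i => ?_⟩
  rw [Pi.smul_apply, smul_eq_mul, mapV, map_mul, map_C, ← hp, ← mul_assoc, ← map_mul C, ← map_mul φ,
    Finset.prod_erase_mul _ _ (Finset.mem_univ i)]

include hfrac in
/-- Clearing denominators in the span of relations. -/
theorem exists_clear {R : Set (Vec A n r)} {v : Vec A n r}
    (hv : mapV φ v ∈ Submodule.span (MvPolynomial (Fin n) B) (mapV φ '' R)) :
    ∃ σ ∈ W, (C σ : MvPolynomial (Fin n) A) • v ∈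
      Submodule.span (MvPolynomial (Fin n) A) R ⊔ jv (RingHom.ker φ) := by
  have key : ∀ y ∈ Submodule.span (MvPolynomial (Fin n) B) (mapV φ '' R), ∃ σ ∈ W,
      ∃ a ∈ Submodule.span (MvPolynomial (Fin n) A) R, (C (φ σ) : MvPolynomial (Fin n) B) • y = mapV φ a := by
    intro y hy
    induction hy using Submodule.span_induction with
    | mem x hx =>
      obtain ⟨a, ha, rfl⟩ := hx
      exact ⟨1, W.one_mem, a, Submodule.subset_span ha, by rw [map_one, map_one, one_smul]⟩
    | zero => exact ⟨1, W.one_mem, 0, zero_mem _, by rw [smul_zero, mapV_zero]⟩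
    | add x y _ _ hx hy =>
      obtain ⟨σ, hσ, a, ha, hx⟩ := hx
      obtain ⟨τ, hτ, b, hb, hy⟩ := hy
      refine ⟨σ * τ, W.mul_mem hσ hτ, (C τ : MvPolynomial (Fin n) A) • a + (C σ : MvPolynomial (Fin n) A) • b,
        add_mem (Submodule.smul_mem _ _ ha) (Submodule.smul_mem _ _ hb), ?_⟩
      rw [mapV_add, mapV_smul, mapV_smul, map_C, map_C, ← hx, ← hy, smul_add, smul_smul, smul_smul, map_mul φ,
        map_mul C, mul_comm (C (φ τ)) (C (φ σ))]
    | smul p x _ hx =>
      obtain ⟨σ, hσ, a, ha, hx⟩ := hx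
      obtain ⟨τ, hτ, p', hp⟩ := exists_poly_lift φ W hfrac p
      refine ⟨σ * τ, W.mul_mem hσ hτ, p' • a, Submodule.smul_mem _ _ ha, ?_⟩
      rw [mapV_smul, ← hp, ← hx, smul_smul, smul_smul, map_mul φ, map_mul C]
      congr 1
      ring
  obtain ⟨σ, hσ, a, ha, h⟩ := key _ hv
  refine ⟨σ, hσ, ?_⟩
  have h0 : (C σ : MvPolynomial (Fin n) A) • v - a ∈ jv (RingHom.ker φ) := by
    rw [← mapV_eq_zero, mapV_sub, mapV_smul, map_C, h, sub_self]
  rw [← add_sub_cancel a ((C σ : MvPolynomial (Fin n) A) • v)]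
  exact add_mem (Submodule.mem_sup_left ha) (Submodule.mem_sup_right h0)

theorem C_smul {N : Type u} [AddCommGroup N] [Module (MvPolynomial (Fin n) A) N] [Module A N]
    [IsScalarTower A (MvPolynomial (Fin n) A) N] (a : A) (y : N) :
    (C a : MvPolynomial (Fin n) A) • y = a • y := by
  rw [← MvPolynomial.algebraMap_eq, algebraMap_smul]

end Groth.Agent.H10.UInj.Base

namespace Groth.Agent.H10.UInj.Base

variable {A : Type u} [CommRing A] {n r : ℕ} {q : Ideal (MvPolynomial (Fin n) A)} {R : Set (Vec A n r)}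
  {N : Type u} [AddCommGroup N] [Module (MvPolynomial (Fin n) A) N] [Module A N]
  [IsScalarTower A (MvPolynomial (Fin n) A) N] {f : Vec A n r →ₗ[MvPolynomial (Fin n) A] N}

theorem IsPres.mem_of_smul_mem (hf : IsPres q R f) {J : Ideal A} {s : MvPolynomial (Fin n) A} (hs : s ∉ q) {y : N}
    (h : s • y ∈ J • (⊤ : Submodule A N)) : y ∈ J • (⊤ : Submodule A N) := by
  let e : N ≃ₗ[A] N := LinearEquiv.ofBijective
    ((DistribSMul.toLinearMap A N s) : N →ₗ[A] N) (hf.bij s hs)
  have h2 : (J • (⊤ : Submodule A N)).map e.symm.toLinearMap ≤ J • ⊤ := by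
    rw [Submodule.map_smul'']; exact Submodule.smul_mono le_rfl le_top
  have h3 := h2 ⟨_, h, rfl⟩
  change e.symm (e y) ∈ _ at h3
  rwa [e.symm_apply_apply] at h3

theorem smul_mem_of_mem {J : Ideal A} (s : MvPolynomial (Fin n) A) {y : N}
    (h : y ∈ J • (⊤ : Submodule A N)) : s • y ∈ J • (⊤ : Submodule A N) := by
  have h2 : (J • (⊤ : Submodule A N)).map ((DistribSMul.toLinearMap A N s) : N →ₗ[A] N) ≤ J • ⊤ := by
    rw [Submodule.map_smul'']; exact Submodule.smul_mono le_rfl le_top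
  exact h2 ⟨y, h, rfl⟩

theorem Mem.mapV {B : Type u} [CommRing B] {φ : A →+* B} {Q : Ideal (MvPolynomial (Fin n) B)}
    (hQ : ∀ s, s ∉ q → map φ s ∉ Q) {J : Ideal A} {v : Vec A n r} (h : Mem q R J v) :
    Mem Q (mapV φ '' R) (J.map φ) (Base.mapV φ v) := by
  obtain ⟨s, hs, hv⟩ := h
  obtain ⟨a, ha, w, hw, hab⟩ := Submodule.mem_sup.1 hv
  refine ⟨map φ s, hQ s hs, ?_⟩
  rw [← mapV_smul, ← hab, mapV_add]
  exact add_mem (Submodule.mem_sup_left (mapV_mem_span φ ha)) (Submodule.mem_sup_right (mapV_mem_jv φ hw))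

end Groth.Agent.H10.UInj.Base
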