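import Groth.Agent.S1229
import Groth.Agent.Lib.LocalFlat.Basic
import Groth.Agent.Lib.LocalFlat.SmulTop
import Groth.Agent.Lib.LocalFlat.Localized
import Mathlib.RingTheory.Flat.Localization
import Mathlib.RingTheory.IsTensorProduct
import Mathlib.RingTheory.LocalRing.ResidueField.Basic
import Mathlib.RingTheory.Nakayama
import Mathlib.LinearAlgebra.TensorProduct.Quotient

/-!
# The flattening ideal of a finitely presented module at a point
-/

set_option autoImplicit false
noncomputable section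

universe u

open TensorProduct IsLocalRing

attribute [local instance] Algebra.TensorProduct.rightAlgebra

namespace Groth.Agent.H10.UInj.Flattening

theorem flat_localized {R S M : Type u} [CommRing R] [CommRing S] [Algebra R S] [AddCommGroup M] [Module R M]
    [Module S M] [IsScalarTower R S M] [Module.Flat R M] (W : Submonoid S) :
    Module.Flat R (LocalizedModule W M) := by
  rw [Module.Flat.iff_lTensor_injective']
  intro J
  exact Groth.Agent.Lib.LocalFlat.Localized.lTensor_injective_of_isLocalizedModule W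
    (LocalizedModule.mkLinearMap W M) J.subtype
    (Module.Flat.lTensor_preserves_injective_linearMap _ J.injective_subtype)

theorem exists_ideal {A B : Type u} [CommRing A] [HenselianLocalRing A] [CommRing B] [IsLocalRing B] [Algebra A B]
    [IsLocalHom (algebraMap A B)] [Algebra.EssFiniteType A B] (hB : _root_.FlatCA.EssFinitePresentation A B)
    (N : Type u) [AddCommGroup N] [Module B N] [Module A N] [IsScalarTower A B N] [Module.FinitePresentation B N] :
    ∃ J : Ideal A, J.FG ∧ J ≤ maximalIdeal A ∧ (J = ⊥ → Module.Flat A N) ∧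
      Module.Flat (A ⧸ J) ((A ⧸ J) ⊗[A] N) ∧
      ∀ 𝔟 : Ideal A, 𝔟 ≤ maximalIdeal A → Module.Flat (A ⧸ 𝔟) ((A ⧸ 𝔟) ⊗[A] N) → J ≤ 𝔟 := by
  obtain ⟨J, hJ, hfg⟩ := Groth.Agent.S1229.result (A := A) (B := B) N
  have key : ∀ 𝔟 : Ideal A, 𝔟 ≤ maximalIdeal A →
      (Module.Flat (A ⧸ 𝔟) ((A ⧸ 𝔟) ⊗[A] N) ↔ J ≤ 𝔟) := by
    intro 𝔟 h𝔟
    haveI : Nontrivial (A ⧸ 𝔟) := Ideal.Quotient.nontrivial_iff.2 fun h =>
      (maximalIdeal.isMaximal A).ne_top (top_le_iff.1 (h ▸ h𝔟))
    haveI : IsLocalRing (A ⧸ 𝔟) := IsLocalRing.of_surjective' (Ideal.Quotient.mk 𝔟) Ideal.Quotient.mk_surjective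
    haveI : IsLocalHom (algebraMap A (A ⧸ 𝔟)) := by
      rw [Ideal.Quotient.algebraMap_eq]
      exact .of_surjective _ Ideal.Quotient.mk_surjective
    let B' := B ⊗[A] (A ⧸ 𝔟)
    let M' := B' ⊗[B] N
    let e : M' ≃ₗ[A ⧸ 𝔟] (A ⧸ 𝔟) ⊗[A] N := Algebra.IsPushout.cancelBaseChange A (A ⧸ 𝔟) B B' N
    have hiff := hJ (A ⧸ 𝔟) B' M' (TensorProduct.mk B B' N 1) (TensorProduct.isBaseChange B N B')
    rw [show J ≤ 𝔟 ↔ J.map (algebraMap A (A ⧸ 𝔟)) = ⊥ by
      rw [Ideal.map_eq_bot_iff_le_ker, Ideal.Quotient.algebraMap_eq, Ideal.mk_ker], ← hiff]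
    constructor
    · intro hflat q _ _
      haveI : Module.Flat (A ⧸ 𝔟) M' := Module.Flat.of_linearEquiv e
      exact flat_localized q.primeCompl
    · intro hflat
      haveI : Module.Flat (A ⧸ 𝔟) M' := by
        refine Module.flat_of_isLocalized_maximal B' M' (fun P : Ideal B' => LocalizedModule P.primeCompl M')
          (fun P _ => LocalizedModule.mkLinearMap P.primeCompl M') fun P hP => hflat P ?_
        have hs : Function.Surjective (algebraMap B B') := fun z => by
          induction z using TensorProduct.induction_on with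
          | zero => exact ⟨0, map_zero _⟩
          | add a b ha hb =>
            obtain ⟨a, rfl⟩ := ha
            obtain ⟨b, rfl⟩ := hb
            exact ⟨a + b, map_add _ _ _⟩
          | tmul b c =>
            obtain ⟨a, rfl⟩ := Ideal.Quotient.mk_surjective c
            refine ⟨a • b, ?_⟩
            rw [Algebra.TensorProduct.algebraMap_apply, Algebra.algebraMap_self, RingHom.id_apply,
              TensorProduct.smul_tmul, Algebra.smul_def, Ideal.Quotient.algebraMap_eq, mul_one]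
        have hmax : (P.comap (algebraMap B B')) = maximalIdeal B :=
          IsLocalRing.eq_maximalIdeal (Ideal.comap_isMaximal_of_surjective _ hs)
        refine sup_le (Ideal.map_le_iff_le_comap.2 fun x hx => ?_) (Ideal.map_le_iff_le_comap.2 hmax.ge)
        obtain ⟨a, rfl⟩ := Ideal.Quotient.mk_surjective x
        have ha : a ∈ maximalIdeal A := (mem_maximalIdeal _).2 fun hu =>
          (mem_maximalIdeal _).1 hx (hu.map (Ideal.Quotient.mk 𝔟))
        have hB' : algebraMap A B a ∈ P.comap (algebraMap B B') := by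
          rw [hmax, mem_maximalIdeal]; exact fun hu => (mem_maximalIdeal _).1 ha (hu.of_map)
        rw [Ideal.mem_comap]
        rw [Ideal.mem_comap] at hB'
        rwa [← IsScalarTower.algebraMap_apply, IsScalarTower.algebraMap_apply A (A ⧸ 𝔟) B'] at hB'
      exact Module.Flat.of_linearEquiv e.symm
  have hJm : J ≤ maximalIdeal A := by
    let _ : Field (A ⧸ maximalIdeal A) := Ideal.Quotient.field _
    exact (key _ le_rfl).1 inferInstance
  refine ⟨J, hfg hB inferInstance, hJm, fun h0 => ?_, (key J hJm).2 le_rfl, fun 𝔟 h h' => (key 𝔟 h).1 h'⟩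
  haveI : Algebra.IsPushout A B A B := ⟨IsBaseChange.linearMap A B⟩
  have hflat := (hJ A B N LinearMap.id (IsBaseChange.ofEquiv (LinearEquiv.refl B N))).2 (by rw [h0, Ideal.map_bot])
  refine Module.flat_of_isLocalized_maximal B N (fun P : Ideal B => LocalizedModule P.primeCompl N)
    (fun P _ => LocalizedModule.mkLinearMap P.primeCompl N) fun P hP => hflat P ?_
  rw [IsLocalRing.eq_maximalIdeal hP, Algebra.algebraMap_self, Ideal.map_id]
  exact sup_le (IsLocalRing.map_maximalIdeal_le (algebraMap A B)) le_rfl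

/-- A small extension step. -/
theorem flat_quot_step {A N : Type u} [CommRing A] [IsLocalRing A] [AddCommGroup N] [Module A N]
    {k : ℕ} (g : Fin k → A) (J : Ideal A) (hJ : J ≤ maximalIdeal A) (hg : ∀ i, g i ∈ J)
    (hgen : J ≤ Ideal.span (Set.range g) ⊔ maximalIdeal A * J)
    (hinj : ∀ x : Fin k → N, ∑ i, g i • x i ∈ (maximalIdeal A * J) • (⊤ : Submodule A N) →
      ∀ i, x i ∈ maximalIdeal A • (⊤ : Submodule A N))
    (hflat : Module.Flat (A ⧸ J) ((A ⧸ J) ⊗[A] N)) :
    Module.Flat (A ⧸ maximalIdeal A * J) ((A ⧸ maximalIdeal A * J) ⊗[A] N) := by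
  classical
  set 𝔟 := maximalIdeal A * J with h𝔟
  let A' := A ⧸ 𝔟
  let M' := A' ⊗[A] N
  let J' : Ideal A' := J.map (Ideal.Quotient.mk 𝔟)
  have hmJ : ∀ a ∈ maximalIdeal A, ∀ j ∈ J', (Ideal.Quotient.mk 𝔟 a) * j = 0 := by
    intro a ha j hj
    obtain ⟨y, hy, rfl⟩ := (Ideal.mem_map_iff_of_surjective _ Ideal.Quotient.mk_surjective).1 hj
    rw [← map_mul, Ideal.Quotient.eq_zero_iff_mem]
    exact Ideal.mul_mem_mul ha hy
  letI : Algebra (A ⧸ J) (A' ⧸ J') := (Ideal.quotientMap J' (Ideal.Quotient.mk 𝔟) Ideal.le_comap_map).toAlgebra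
  haveI : IsScalarTower A (A ⧸ J) (A' ⧸ J') := IsScalarTower.of_algebraMap_eq fun a => rfl
  haveI : Module.Flat (A' ⧸ J') ((A' ⧸ J') ⊗[A'] M') := by
    haveI : Module.Flat (A' ⧸ J') ((A' ⧸ J') ⊗[A ⧸ J] ((A ⧸ J) ⊗[A] N)) := inferInstance
    haveI h1 : Module.Flat (A' ⧸ J') ((A' ⧸ J') ⊗[A] N) := Module.Flat.of_linearEquiv
      (AlgebraTensorModule.cancelBaseChange A (A ⧸ J) (A' ⧸ J') (A' ⧸ J') N).symm
    exact Module.Flat.of_linearEquiv (AlgebraTensorModule.cancelBaseChange A A' (A' ⧸ J') (A' ⧸ J') N)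
  refine Groth.Agent.Lib.LocalFlat.Basic.flat_of_tor1Zero fun 𝔞 _ =>
    Groth.Agent.Lib.LocalFlat.Basic.Tor1Zero.of_pow_smul_eq_zero (I := J') ?_ 2 fun r hr x => ?_
  · rw [injective_iff_map_eq_zero]
    intro z hz
    let γ : Fin k → J' := fun i => ⟨Ideal.Quotient.mk 𝔟 (g i), Ideal.mem_map_of_mem _ (hg i)⟩
    have hw : ∃ x : Fin k → N, z = ∑ i, ((1 : A') ⊗ₜ[A] x i) ⊗ₜ[A'] γ i := by
      clear hz
      induction z using TensorProduct.induction_on with
      | zero => exact ⟨0, by simp⟩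
      | add a b ha hb =>
        obtain ⟨x, rfl⟩ := ha
        obtain ⟨y, rfl⟩ := hb
        exact ⟨x + y, by simp [TensorProduct.tmul_add, TensorProduct.add_tmul, Finset.sum_add_distrib]⟩
      | tmul w j =>
        obtain ⟨n, rfl⟩ := TensorProduct.mk_surjective A N A' Ideal.Quotient.mk_surjective w
        obtain ⟨y, hy, hyj⟩ := (Ideal.mem_map_iff_of_surjective _ Ideal.Quotient.mk_surjective).1 j.2
        obtain ⟨a, ha, b, hb, hab⟩ := Submodule.mem_sup.1 (hgen hy)
        obtain ⟨c, hc⟩ := (Ideal.mem_span_range_iff_exists_fun).1 ha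
        refine ⟨fun i => c i • n, ?_⟩
        have hj : j = ∑ i, (Ideal.Quotient.mk 𝔟 (c i)) • γ i := Subtype.ext (by
          rw [← hyj, ← hab, map_add, Ideal.Quotient.eq_zero_iff_mem.2 hb, add_zero, ← hc, map_sum]
          simp [γ])
        rw [hj, TensorProduct.tmul_sum]
        refine Finset.sum_congr rfl fun i _ => ?_
        rw [TensorProduct.mk_apply, TensorProduct.tmul_smul, TensorProduct.tmul_smul (r := c i),
          ← algebraMap_smul A' (c i) ((1 : A') ⊗ₜ[A] n), ← TensorProduct.smul_tmul',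
          Ideal.Quotient.algebraMap_eq]
    obtain ⟨x, rfl⟩ := hw
    have h1 : (1 : A') ⊗ₜ[A] (∑ i, g i • x i) = 0 := by
      have h2 := congrArg (TensorProduct.rid A' M') hz
      rw [map_sum, map_sum, map_zero] at h2
      rw [← h2, TensorProduct.tmul_sum]
      refine Finset.sum_congr rfl fun i _ => ?_
      rw [LinearMap.lTensor_tmul, TensorProduct.rid_tmul, TensorProduct.tmul_smul,
        ← algebraMap_smul A' (g i)]
      rfl
    have h3 := hinj x ((Groth.Agent.Lib.LocalFlat.SmulTop.one_tmul_eq_zero_iff 𝔟 _).1 h1)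
    refine Finset.sum_eq_zero fun i _ => ?_
    refine Submodule.smul_induction_on (p := fun n => ((1 : A') ⊗ₜ[A] n) ⊗ₜ[A'] γ i = 0) (h3 i)
      (fun a ha n _ => ?_) fun a b ha hb => by rw [TensorProduct.tmul_add, TensorProduct.add_tmul, ha, hb, add_zero]
    rw [TensorProduct.tmul_smul, ← algebraMap_smul A' a, TensorProduct.smul_tmul,
      show (algebraMap A A' a) • γ i = 0 from Subtype.ext (hmJ a ha _ (γ i).2), TensorProduct.tmul_zero]
  · have h2 : J' ^ 2 = ⊥ := by
      rw [pow_two, ← Ideal.map_mul, Ideal.map_eq_bot_iff_le_ker, Ideal.mk_ker]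
      exact Ideal.mul_mono hJ le_rfl
    rw [h2, Ideal.mem_bot] at hr
    rw [hr, zero_smul]

end Groth.Agent.H10.UInj.Flattening
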