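import Groth.Agent.H10.UInj.Base
import Groth.Agent.H10.UInj.Flattening
import Groth.Agent.Lib.Henselian.Henselization
import Groth.Agent.Lib.RG.FibrePoint
import Mathlib.RingTheory.TensorProduct.MvPolynomial
import Mathlib.RingTheory.Localization.Finiteness
import Mathlib.RingTheory.LocalRing.ResidueField.Ideal
import Mathlib.LinearAlgebra.StdBasis
import Mathlib.RingTheory.MvPolynomial.Basic

/-!
# Flatness from a map into a flat module which is injective on the closed fibre
-/

set_option autoImplicit false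
noncomputable section

universe u

open MvPolynomial TensorProduct IsLocalRing
open Groth.Agent.H10.UInj.Base

attribute [local instance] MvPolynomial.algebraMvPolynomial

namespace Groth.Agent.H10.UInj.Flat

theorem isPres_comp {A : Type u} [CommRing A] {n r : ℕ} (q : Ideal (MvPolynomial (Fin n) A)) [q.IsPrime]
    (R : Set (Vec A n r)) {G N : Type u} [AddCommGroup G] [Module (MvPolynomial (Fin n) A) G] [AddCommGroup N]
    [Module (MvPolynomial (Fin n) A) N] (π : Vec A n r →ₗ[MvPolynomial (Fin n) A] G) (hπ : Function.Surjective π)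
    (hker : ∀ v, π v = 0 ↔ v ∈ Submodule.span (MvPolynomial (Fin n) A) R)
    (l : G →ₗ[MvPolynomial (Fin n) A] N) [IsLocalizedModule q.primeCompl l] : IsPres q R (l.comp π) where
  surj y := by
    obtain ⟨⟨z, s⟩, hs⟩ := IsLocalizedModule.surj q.primeCompl l y
    obtain ⟨v, rfl⟩ := hπ z
    exact ⟨v, s, s.2, hs⟩
  ker v := by
    rw [LinearMap.comp_apply, IsLocalizedModule.eq_zero_iff q.primeCompl l]
    constructor
    · rintro ⟨⟨s, hs⟩, hsv⟩
      exact ⟨s, hs, (hker _).1 (by rw [map_smul]; exact hsv)⟩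
    · rintro ⟨s, hs, hsv⟩
      exact ⟨⟨s, hs⟩, by
        show s • π v = 0
        rw [← map_smul]; exact (hker _).2 hsv⟩
  bij s hs := (Module.End.isUnit_iff _).1 (IsLocalizedModule.map_units l (⟨s, hs⟩ : q.primeCompl))

variable {A : Type u} [CommRing A] [IsLocalRing A] {n r : ℕ}

theorem flat_of_injective_mod (q : Ideal (MvPolynomial (Fin n) A)) [q.IsPrime]
    (hq : ∀ a ∈ maximalIdeal A, C a ∈ q) (R : Set (Vec A n r)) (hR : R.Finite)
    {N : Type u} [AddCommGroup N] [Module (MvPolynomial (Fin n) A) N] [Module A N]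
    [IsScalarTower A (MvPolynomial (Fin n) A) N]
    (l : (Vec A n r ⧸ Submodule.span (MvPolynomial (Fin n) A) R) →ₗ[MvPolynomial (Fin n) A] N)
    [IsLocalizedModule q.primeCompl l]
    {M : Type u} [AddCommGroup M] [Module A M] [Module.Flat A M] (u : N →ₗ[A] M)
    (hu : ∀ x, u x ∈ maximalIdeal A • (⊤ : Submodule A M) → x ∈ maximalIdeal A • (⊤ : Submodule A N)) :
    Module.Flat A N := by
  classical
  let f : Vec A n r →ₗ[MvPolynomial (Fin n) A] N :=
    l.comp (Submodule.span (MvPolynomial (Fin n) A) R).mkQ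
  have hf : IsPres q R f := isPres_of_isLocalizedModule l
  -- the henselization
  let Ah := Groth.Agent.Lib.Henselian.Henselization.Henselization A
  let ι : A →+* Ah := algebraMap A Ah
  have hαs : Function.Surjective (Groth.Agent.Lib.Henselian.Pointed.Lim.α A (ResidueField A)) :=
    Groth.Agent.Lib.Henselian.Henselization.α_surjective (Groth.Agent.Lib.Henselian.Henselization.algebraMap_residueField_surjective A)
  let lamh : Ah →ₐ[A] ResidueField A := Groth.Agent.Lib.Henselian.Pointed.Lim.α A (ResidueField A)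
  have hlamm : ∀ a, a ∈ maximalIdeal Ah → lamh a = 0 := fun a ha => by
    exact RingHom.mem_ker.1 ((ker_eq_maximalIdeal (lamh : Ah →+* ResidueField A) hαs).ge ha)
  have hres : ∀ a : Ah, ∃ b : A, a - ι b ∈ maximalIdeal Ah := fun a =>
    Groth.Agent.Lib.Henselian.Henselization.exists_sub_mem A Ah a
  have hιm : (maximalIdeal A).map ι ≤ maximalIdeal Ah := IsLocalRing.map_maximalIdeal_le ι
  let P := MvPolynomial (Fin n) A
  let Ph := MvPolynomial (Fin n) Ah
  let Kq := q.ResidueField
  let κq : A →+* Kq := (algebraMap P Kq).comp C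
  let lam : ResidueField A →+* Kq := Ideal.Quotient.lift (maximalIdeal A) κq fun a ha =>
    Ideal.algebraMap_residueField_eq_zero.2 (hq a ha)
  let ρh : Ph →+* Kq := eval₂Hom (lam.comp lamh.toRingHom) fun i => algebraMap P Kq (X i)
  let qh : Ideal Ph := RingHom.ker ρh
  haveI : qh.IsPrime := RingHom.ker_isPrime _
  have hρ : ρh.comp (map ι) = algebraMap P Kq := by
    refine MvPolynomial.ringHom_ext (fun a => ?_) fun i => ?_
    · refine ((congrArg ρh (MvPolynomial.map_C ι a)).trans (eval₂Hom_C _ _ _)).trans ?_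
      show lam (lamh (algebraMap A Ah a)) = _
      rw [AlgHom.commutes]; rfl
    · exact (congrArg ρh (MvPolynomial.map_X ι i)).trans (eval₂Hom_X' _ _ _)
  have hq' : ∀ p, map ι p ∈ qh ↔ p ∈ q := fun p => by
    rw [RingHom.mem_ker, ← RingHom.comp_apply, hρ, Ideal.algebraMap_residueField_eq_zero]
  have hqhm : ∀ a ∈ maximalIdeal Ah, C a ∈ qh := fun a ha => by
    rw [RingHom.mem_ker]
    refine (eval₂Hom_C _ _ _).trans ?_
    show lam (lamh a) = 0
    rw [hlamm a ha, map_zero]
  have hlift : ∀ p : Ph, ∃ p' : P, p - map ι p' ∈ (maximalIdeal Ah).map C := by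
    intro p
    induction p using MvPolynomial.induction_on' with
    | monomial m a =>
      obtain ⟨b, hb⟩ := hres a
      refine ⟨monomial m b, ?_⟩
      rw [map_monomial, ← map_sub, mem_map_C_iff]
      intro m'
      rw [coeff_monomial]
      split_ifs
      · exact hb
      · exact zero_mem _
    | add p p' hp hp' =>
      obtain ⟨a, ha⟩ := hp
      obtain ⟨b, hb⟩ := hp'
      exact ⟨a + b, by rw [map_add, add_sub_add_comm]; exact add_mem ha hb⟩
  have hqhC : ∀ p ∈ (maximalIdeal Ah).map (C : Ah →+* Ph), p ∈ qh := fun p hp =>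
    (Ideal.map_le_iff_le_comap.2 fun a ha => hqhm a ha : (maximalIdeal Ah).map C ≤ qh) hp
  have hliftV : ∀ v : Vec Ah n r, ∃ v' : Vec A n r, v - mapV ι v' ∈ jv (maximalIdeal Ah) := fun v => by
    choose v' hv' using fun i => hlift (v i)
    exact ⟨v', mem_jv.2 fun i m => mem_map_C_iff.1 (hv' i) m⟩
  -- the module over the henselization
  haveI : Module.Flat A Ah := Groth.Agent.Lib.Henselian.Henselization.flat A Ah
  haveI : Module.Flat P Ph := Module.Flat.of_linearEquiv
    (Algebra.IsPushout.equiv A P Ah Ph).toLinearEquiv.symm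
  let N₂ := Vec A n r ⧸ Submodule.span P R
  let G := Ph ⊗[P] N₂
  let Rh : Set (Vec Ah n r) := mapV ι '' R
  let πh : Vec Ah n r →ₗ[Ph] G := Fintype.linearCombination Ph fun i =>
    (1 : Ph) ⊗ₜ[P] (Submodule.Quotient.mk (Pi.single i 1) : N₂)
  have hPalg : ∀ p : P, algebraMap P Ph p = map ι p := fun p => rfl
  have hπι : ∀ v : Vec A n r, πh (mapV ι v) = (1 : Ph) ⊗ₜ[P] (Submodule.Quotient.mk v : N₂) := by
    intro v
    rw [Fintype.linearCombination_apply]
    conv_rhs => rw [pi_eq_sum_univ' v, ← Submodule.mkQ_apply, map_sum, TensorProduct.tmul_sum]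
    refine Finset.sum_congr rfl fun i _ => ?_
    rw [map_smul, TensorProduct.tmul_smul, ← algebraMap_smul Ph (v i), hPalg]
    rfl
  let mapP : Vec A n r →ₗ[P] Vec Ah n r :=
    { toFun := mapV ι
      map_add' := mapV_add ι
      map_smul' := fun p v => by rw [RingHom.id_apply, mapV_smul, ← hPalg, algebraMap_smul] }
  let ψ : G →ₗ[Ph] Vec Ah n r ⧸ Submodule.span Ph Rh :=
    LinearMap.liftBaseChange Ph ((Submodule.span P R).liftQ
      (((Submodule.span Ph Rh).mkQ.restrictScalars P).comp mapP)
      (fun v hv => (Submodule.Quotient.mk_eq_zero _).2 (mapV_mem_span ι hv)))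
  have hψ : ψ.comp πh = (Submodule.span Ph Rh).mkQ := by
    refine (Pi.basisFun Ph (Fin r)).ext fun i => ?_
    have h1 : mapV ι (Pi.single i 1 : Vec A n r) = Pi.single i 1 := by
      funext j
      by_cases hj : j = i
      · subst hj; simp [mapV]
      · simp [mapV, Pi.single_eq_of_ne hj]
    rw [Pi.basisFun_apply, LinearMap.comp_apply]
    conv_lhs => rw [← h1, hπι]
    rw [show ψ ((1 : Ph) ⊗ₜ[P] (Submodule.Quotient.mk (Pi.single i 1 : Vec A n r) : N₂)) =
      (1 : Ph) • (Submodule.span Ph Rh).mkQ (mapV ι (Pi.single i 1)) from LinearMap.liftBaseChange_tmul _ _ _ _, one_smul, h1]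
  have hπs : Function.Surjective πh := fun y => by
    induction y using TensorProduct.induction_on with
    | zero => exact ⟨0, map_zero _⟩
    | add a b ha hb =>
      obtain ⟨a, rfl⟩ := ha
      obtain ⟨b, rfl⟩ := hb
      exact ⟨a + b, map_add _ _ _⟩
    | tmul c z =>
      obtain ⟨v, rfl⟩ := Submodule.Quotient.mk_surjective _ z
      exact ⟨c • mapV ι v, by rw [map_smul, hπι, TensorProduct.smul_tmul', smul_eq_mul, mul_one]⟩
  have hπk : ∀ v, πh v = 0 ↔ v ∈ Submodule.span Ph Rh := by
    intro v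
    constructor
    · intro h
      rw [← Submodule.Quotient.mk_eq_zero, ← Submodule.mkQ_apply, ← hψ, LinearMap.comp_apply, h, map_zero]
    · intro h
      refine (Submodule.span_le.2 ?_ : Submodule.span Ph Rh ≤ LinearMap.ker πh) h
      rintro _ ⟨w, hw, rfl⟩
      rw [SetLike.mem_coe, LinearMap.mem_ker, hπι, (Submodule.Quotient.mk_eq_zero _).2 (Submodule.subset_span hw),
        TensorProduct.tmul_zero]
  let Bh := Localization.AtPrime qh
  let Nh := LocalizedModule qh.primeCompl G
  let lh : G →ₗ[Ph] Nh := LocalizedModule.mkLinearMap qh.primeCompl G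
  let fh : Vec Ah n r →ₗ[Ph] Nh := lh ∘ₗ πh
  have hfh : IsPres (N := Nh) qh Rh fh := isPres_comp (N := Nh) qh Rh πh hπs hπk lh
  haveI : Module.FinitePresentation P N₂ := Module.finitePresentation_of_surjective
    (Submodule.span P R).mkQ (Submodule.mkQ_surjective _) (by rw [Submodule.ker_mkQ]; exact Submodule.fg_span hR)
  haveI : Module.FinitePresentation Ph G :=
    FinitePresentation.of_isBaseChange (TensorProduct.mk P Ph N₂ 1) (TensorProduct.isBaseChange P N₂ Ph)
  haveI : Algebra.EssFiniteType Ph Bh := Algebra.EssFiniteType.of_isLocalization Bh qh.primeCompl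
  haveI : Algebra.EssFiniteType Ah Bh := Algebra.EssFiniteType.comp Ah Ph Bh
  haveI : IsLocalHom (algebraMap Ah Bh) := ⟨fun a ha => by
    by_contra h
    refine (mem_maximalIdeal _).1 ?_ ha
    rw [IsScalarTower.algebraMap_apply Ah Ph Bh, IsLocalization.AtPrime.to_map_mem_maximal_iff Bh qh]
    exact hqhm a ((mem_maximalIdeal _).2 h)⟩
  obtain ⟨J, hJfg, hJm, hJflat, hJq, hJmin⟩ := Flattening.exists_ideal (A := Ah) (B := Bh)
    ⟨Ph, inferInstance, inferInstance, inferInstance, inferInstance, qh.primeCompl, inferInstance, inferInstance⟩ Nh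
  -- comparison with the flat module
  haveI : Module.Flat Ah (Ah ⊗[A] M) := inferInstance
  let bD := Pi.basis fun _ : Fin r => MvPolynomial.basisMonomials (Fin n) Ah
  let bA := Pi.basis fun _ : Fin r => MvPolynomial.basisMonomials (Fin n) A
  let Λ : Vec Ah n r →ₗ[Ah] Ah ⊗[A] M := bD.constr Ah fun x => (1 : Ah) ⊗ₜ[A] u (f (bA x))
  let mapA : Vec A n r →ₗ[A] Vec Ah n r := mapP.restrictScalars A
  have hΛ : ∀ w, Λ (mapV ι w) = (1 : Ah) ⊗ₜ[A] u (f w) := by
    intro w
    refine LinearMap.congr_fun (bA.ext (f₁ := (Λ.restrictScalars A).comp mapA)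
      (f₂ := ((TensorProduct.mk A Ah M) 1).comp (u.comp (f.restrictScalars A))) fun x => ?_) w
    have hx : mapV ι (bA x) = bD x := by
      obtain ⟨i, m⟩ := x
      funext j
      by_cases hj : j = i
      · subst hj; simp [bA, bD, mapV, Pi.basis_apply]
      · simp [bA, bD, mapV, Pi.basis_apply, Pi.single_eq_of_ne hj]
    show Λ (mapV ι (bA x)) = (1 : Ah) ⊗ₜ[A] u (f (bA x))
    rw [hx]; exact bD.constr_basis _ _ _
  have hΛR : ∀ v ∈ Submodule.span Ph Rh, Λ v = 0 := by
    intro v hv
    suffices ∀ p : Ph, Λ (p • v) = 0 by simpa using this 1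
    induction hv using Submodule.span_induction with
    | mem x hx =>
      obtain ⟨w, hw, rfl⟩ := hx
      intro p
      induction p using MvPolynomial.induction_on' with
      | monomial m a =>
        have : monomial m a • mapV ι w = a • mapV ι ((monomial m (1 : A)) • w) := by
          rw [mapV_smul, map_monomial, map_one, ← smul_assoc, smul_monomial, smul_eq_mul, mul_one]
        rw [this, map_smul, hΛ, (hf.ker _).2 ⟨1, fun h => (Ideal.IsPrime.ne_top inferInstance : q ≠ ⊤)
          ((Ideal.eq_top_iff_one q).2 h), by rw [one_smul]; exact Submodule.smul_mem _ _ (Submodule.subset_span hw)⟩,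
          map_zero, TensorProduct.tmul_zero, smul_zero]
      | add p q hp hq => rw [add_smul, map_add, hp, hq, add_zero]
    | zero => simp
    | add a b _ _ ha hb => intro p; rw [smul_add, map_add, ha, hb, add_zero]
    | smul p a _ ha => intro p'; rw [smul_smul]; exact ha _
  -- a minimal set of generators
  have hex : ∃ k, ∃ g : Fin k → Ah, Ideal.span (Set.range g) ⊔ maximalIdeal Ah * J = J := by
    obtain ⟨k, g, hg⟩ := Submodule.fg_iff_exists_fin_generating_family.1 hJfg
    exact ⟨k, g, by rw [show Ideal.span (Set.range g) = J from hg]; exact sup_eq_left.2 Ideal.mul_le_right⟩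
  obtain ⟨g, hg⟩ := Nat.find_spec hex
  have hgJ : ∀ i, g i ∈ J := fun i => hg ▸ Ideal.mem_sup_left (Ideal.subset_span ⟨i, rfl⟩)
  have hstep : Module.Flat (Ah ⧸ maximalIdeal Ah * J) ((Ah ⧸ maximalIdeal Ah * J) ⊗[Ah] Nh) := by
    refine Flattening.flat_quot_step (N := Nh) g J hJm hgJ hg.ge (fun x hx => ?_) hJq
    choose v t ht hvt using fun i => hfh.surj (x i)
    let T : Fin (Nat.find hex) → Ph := fun i => ∏ j ∈ Finset.univ.erase i, t j
    let T₀ : Ph := ∏ j, t j
    have hT₀ : T₀ ∉ qh := fun h => by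
      obtain ⟨j, -, hj⟩ := (Ideal.IsPrime.prod_mem_iff).1 h
      exact ht j hj
    have hT : ∀ i, T₀ • x i = fh (T i • v i) := fun i => by
      rw [map_smul, ← hvt, smul_smul]
      exact congrArg (· • x i) (Finset.prod_erase_mul _ _ (Finset.mem_univ i)).symm
    let vv : Fin (Nat.find hex) → Vec Ah n r := fun i => T i • v i
    have h1 : fh (∑ i, (C (g i) : Ph) • vv i) ∈ (maximalIdeal Ah * J) • (⊤ : Submodule Ah Nh) := by
      rw [map_sum]
      have : ∀ i, fh ((C (g i) : Ph) • vv i) = T₀ • g i • x i := fun i => by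
        rw [map_smul, ← hT]
        exact (C_smul (g i) (T₀ • x i)).trans (smul_comm (g i) T₀ (x i))
      rw [Finset.sum_congr rfl fun i _ => this i, ← Finset.smul_sum]
      exact smul_mem_of_mem _ hx
    obtain ⟨s, hs, hsv⟩ := (map_mem_smul_iff hfh).1 h1
    obtain ⟨s', hs'⟩ := hlift s
    choose v' hv' using fun i => hliftV (vv i)
    have hs'q : s' ∉ q := fun h => hs (by
      rw [← sub_add_cancel s (map ι s')]
      exact add_mem (hqhC _ hs') ((hq' _).2 h))
    have hdiff : ∀ i, s • ((C (g i) : Ph) • vv i) - (C (g i) : Ph) • mapV ι (s' • v' i) ∈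
        jv (maximalIdeal Ah * J) := by
      intro i
      have h2 : s • ((C (g i) : Ph) • vv i) - (C (g i) : Ph) • mapV ι (s' • v' i) =
          (C (g i) : Ph) • ((s - map ι s') • vv i + map ι s' • (vv i - mapV ι (v' i))) := by
        rw [mapV_smul, smul_comm s, ← smul_sub]
        congr 1
        rw [sub_smul, smul_sub]; abel
      rw [h2]
      refine C_smul_jv (J := maximalIdeal Ah) (fun b hb => by
        rw [mul_comm (g i) b]; exact Ideal.mul_mem_mul hb (hgJ i)) (add_mem (mem_jv.2 fun j m => ?_)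
          (Submodule.smul_mem _ _ (hv' i)))
      rw [Pi.smul_apply, smul_eq_mul]
      exact mem_map_C_iff.1 (Ideal.mul_mem_right _ _ hs') m
    have h3 : ∑ i, (C (g i) : Ph) • mapV ι (s' • v' i) ∈
        Submodule.span Ph Rh ⊔ jv (maximalIdeal Ah * J) := by
      have := sub_mem hsv (Submodule.mem_sup_right (S := Submodule.span Ph Rh) (Submodule.sum_mem (t := Finset.univ) _ fun i _ => hdiff i))
      rwa [Finset.smul_sum, ← Finset.sum_sub_distrib, Finset.sum_congr rfl fun i _ => sub_sub_cancel _ _] at this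
    have h4 : ∑ i, g i • ((1 : Ah) ⊗ₜ[A] u (f (s' • v' i))) ∈
        (maximalIdeal Ah * J) • (⊤ : Submodule Ah (Ah ⊗[A] M)) := by
      obtain ⟨a, ha, w, hw, haw⟩ := Submodule.mem_sup.1 h3
      have h5 := congrArg Λ haw
      rw [map_add, hΛR a ha, zero_add, map_sum] at h5
      simp only [C_smul, map_smul, hΛ] at h5
      simp only [map_smul]
      rw [← h5]
      have h6 : w ∈ (maximalIdeal Ah * J) • (⊤ : Submodule Ah (Vec Ah n r)) :=
        map_mem_smul (f := LinearMap.id) hw
      have h7 : ((maximalIdeal Ah * J) • (⊤ : Submodule Ah (Vec Ah n r))).map Λ ≤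
          (maximalIdeal Ah * J) • (⊤ : Submodule Ah (Ah ⊗[A] M)) := by
        rw [Submodule.map_smul'']; exact Submodule.smul_mono le_rfl le_top
      exact h7 ⟨w, h6, rfl⟩
    intro j
    let ξ : Fin (Nat.find hex) → Ah ⊗[A] M := fun i => (1 : Ah) ⊗ₜ[A] u (f (s' • v' i))
    let Gj : Ideal Ah := Ideal.span (g '' {j}ᶜ) ⊔ maximalIdeal Ah * J
    have h5 : g j • ξ j ∈ Gj • (⊤ : Submodule Ah (Ah ⊗[A] M)) := by
      have h6 : g j • ξ j = ∑ i, g i • ξ i - ∑ i ∈ Finset.univ.erase j, g i • ξ i := by
        rw [← Finset.add_sum_erase _ _ (Finset.mem_univ j), add_sub_cancel_right]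
      rw [h6]
      refine sub_mem (Submodule.smul_mono_left le_sup_right h4) (Submodule.sum_mem _ fun i hi => ?_)
      exact Submodule.smul_mem_smul (Ideal.mem_sup_left (Ideal.subset_span ⟨i, (Finset.mem_erase.1 hi).1, rfl⟩)) trivial
    have hgj : g j ∉ Gj := by
      intro h
      obtain ⟨k', hk'⟩ : ∃ k', Nat.find hex = k' + 1 := ⟨Nat.find hex - 1, by have := j.pos; omega⟩
      let g' : Fin k' → Ah := fun i => g (Fin.cast hk'.symm ((Fin.cast hk' j).succAbove i))
      have hr : g '' {j}ᶜ ⊆ Set.range g' := by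
        rintro _ ⟨i, hi, rfl⟩
        obtain ⟨i', hi'⟩ := Fin.exists_succAbove_eq (x := Fin.cast hk' i) (y := Fin.cast hk' j)
          fun h => hi (Fin.cast_injective _ h)
        exact ⟨i', by simp [g', hi']⟩
      have hsub : Ideal.span (Set.range g') ⊔ maximalIdeal Ah * J = J := by
        refine le_antisymm (sup_le (Ideal.span_le.2 ?_) Ideal.mul_le_right) ?_
        · rintro _ ⟨i, rfl⟩; exact hgJ _
        · refine hg.ge.trans (sup_le (Ideal.span_le.2 ?_) le_sup_right)
          rintro _ ⟨i, rfl⟩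
          by_cases hi : i = j
          · subst hi
            exact (sup_le_sup_right (Ideal.span_mono hr) _) h
          · exact Ideal.mem_sup_left (Ideal.subset_span (hr ⟨i, hi, rfl⟩))
      exact Nat.find_min hex (by omega : k' < Nat.find hex) ⟨g', hsub⟩
    have h7 : ξ j ∈ maximalIdeal Ah • (⊤ : Submodule Ah (Ah ⊗[A] M)) :=
      mem_of_smul_mem Gj (maximalIdeal Ah) (g j) (fun a ha => (mem_maximalIdeal _).2 fun hua =>
        hgj ((Ideal.unit_mul_mem_iff_mem Gj hua).1 ha)) _ h5
    have h8 : (1 : ResidueField A) ⊗ₜ[A] u (f (s' • v' j)) = 0 := by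
      have key : ∀ z ∈ maximalIdeal Ah • (⊤ : Submodule Ah (Ah ⊗[A] M)), lamh.toLinearMap.rTensor M z = 0 := by
        intro z hz
        refine Submodule.smul_induction_on hz (fun a ha w hw => ?_) fun a b ha hb => by rw [map_add, ha, hb, add_zero]
        clear hw
        induction w using TensorProduct.induction_on with
        | zero => simp
        | add b c hb hc => rw [smul_add, map_add, hb, hc, add_zero]
        | tmul b m =>
          rw [TensorProduct.smul_tmul', LinearMap.rTensor_tmul, AlgHom.toLinearMap_apply, smul_eq_mul, map_mul,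
            hlamm a ha, zero_mul, TensorProduct.zero_tmul]
      have := key _ h7
      rwa [LinearMap.rTensor_tmul, AlgHom.toLinearMap_apply, map_one] at this
    have h9 : Mem q R (maximalIdeal A) (v' j) := by
      refine Mem.of_smul hs'q ((map_mem_smul_iff hf).1 (hu _ ?_))
      exact (Groth.Agent.Lib.LocalFlat.SmulTop.one_tmul_eq_zero_iff (maximalIdeal A) _).1 h8
    have h10 : Mem qh Rh (maximalIdeal Ah) (vv j) := by
      have h11 := ((h9.mapV (φ := ι) (Q := qh) fun p hp h => hp ((hq' p).1 h)).mono hιm).add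
        (mem_of_mem_jv (R := Rh) (hv' j))
      rwa [add_sub_cancel] at h11
    have h12 := (map_mem_smul_iff hfh).2 h10
    rw [← hT] at h12
    exact hfh.mem_of_smul_mem hT₀ h12
  have hJ0 : J = ⊥ := Submodule.eq_bot_of_le_smul_of_le_jacobson_bot (maximalIdeal Ah) J hJfg
    (hJmin (maximalIdeal Ah * J) Ideal.mul_le_left hstep) (by rw [IsLocalRing.jacobson_eq_maximalIdeal ⊥ bot_ne_top])
  haveI := hJflat hJ0
  haveI : Module.Flat A Nh := Module.Flat.trans A Ah Nh
  have hcomap : qh.comap (algebraMap P Ph) = q := Ideal.ext fun p => hq' p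
  have hN₂ : Module.Flat A (LocalizedModule q.primeCompl N₂) :=
    Groth.Agent.Lib.RG.FibrePoint.flatAt_down (TensorProduct.mk P Ph N₂ 1) (TensorProduct.isBaseChange P N₂ Ph)
      q qh hcomap (inferInstance : Module.Flat A Nh)
  exact Module.Flat.of_linearEquiv ((IsLocalizedModule.iso q.primeCompl l).restrictScalars A).symm

end Groth.Agent.H10.UInj.Flat
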