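import Groth.Agent.H10.UInj.Base
import Groth.Agent.S1216
import Mathlib.RingTheory.Valuation.LocalSubring
import Mathlib.RingTheory.LocalRing.ResidueField.Ideal
import Mathlib.RingTheory.Localization.Finiteness

/-!
# No nonzero element of a flat module over a domain at a point is divisible by every nonzero scalar
-/

set_option autoImplicit false
noncomputable section

universe u

open MvPolynomial
open Groth.Agent.H10.UInj.Base

namespace Groth.Agent.H10.UInj.Valn

variable {A : Type u} [CommRing A] [IsLocalRing A] {n r : ℕ}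

open IsLocalRing

theorem eq_maximalIdeal (q : Ideal (MvPolynomial (Fin n) A)) [q.IsPrime] (hq : ∀ a ∈ maximalIdeal A, C a ∈ q)
    (R : Set (Vec A n r)) (P : Ideal A) [P.IsPrime]
    (hsat : ∀ σ, σ ∉ P → ∀ v, Mem q R P ((C σ : MvPolynomial (Fin n) A) • v) → Mem q R P v)
    (v₀ : Vec A n r) (hv₀ : ¬ Mem q R P v₀)
    (hdiv : ∀ c, c ∉ P → ∃ v t, t ∉ q ∧ Mem q R P (t • v₀ - (C c : MvPolynomial (Fin n) A) • v)) :
    P = maximalIdeal A := by
  classical
  refine le_antisymm (le_maximalIdeal (Ideal.IsPrime.ne_top inferInstance)) fun a₀ ha₀ => ?_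
  by_contra ha₀P
  -- the generic fibre
  let K := P.ResidueField
  let α : A →+* K := algebraMap A K
  have hkα : RingHom.ker α = P := Ideal.ker_algebraMap_residueField P
  have hα0 : ∀ x, α x = 0 ↔ x ∈ P := fun x => by rw [← RingHom.mem_ker, hkα]
  have hfrac : ∀ b : K, ∃ a, ∃ σ ∈ P.primeCompl, α σ * b = α a := by
    intro b
    obtain ⟨⟨x, s⟩, h⟩ := IsLocalization.surj (nonZeroDivisors (A ⧸ P)) b
    obtain ⟨x, rfl⟩ := Ideal.Quotient.mk_surjective x
    obtain ⟨σ, hσ⟩ := Ideal.Quotient.mk_surjective (s : A ⧸ P)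
    refine ⟨x, σ, fun hσP => nonZeroDivisors.coe_ne_zero s (by rw [← hσ]; exact Ideal.Quotient.eq_zero_iff_mem.2 hσP), ?_⟩
    have hα : ∀ y, α y = algebraMap (A ⧸ P) K (Ideal.Quotient.mk P y) := fun y => rfl
    rw [hα, hα, hσ, mul_comm]
    exact h
  let ξ : Vec K n r ⧸ Submodule.span (MvPolynomial (Fin n) K) (mapV α '' R) :=
    Submodule.Quotient.mk (mapV α v₀)
  have hξ : ∀ s, s ∉ q → map α s • ξ ≠ 0 := by
    intro s hs h0
    rw [← Submodule.Quotient.mk_smul, ← mapV_smul, Submodule.Quotient.mk_eq_zero] at h0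
    obtain ⟨σ, hσ, h⟩ := exists_clear α P.primeCompl hfrac h0
    rw [hkα, smul_comm] at h
    exact hv₀ (hsat σ hσ _ ⟨s, hs, h⟩)
  let Ann : Ideal (MvPolynomial (Fin n) K) := LinearMap.ker (LinearMap.toSpanSingleton _ _ ξ)
  obtain ⟨𝔯, h𝔯, hAnn, hdisj⟩ := Ideal.exists_le_prime_disjoint (I := Ann)
    (q.primeCompl.map (map α : MvPolynomial (Fin n) A →+* MvPolynomial (Fin n) K)) (Set.disjoint_left.2 (by
      rintro _ h ⟨s, hs, rfl⟩
      exact hξ s hs h))
  let F := FractionRing (MvPolynomial (Fin n) K ⧸ 𝔯)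
  let πF : MvPolynomial (Fin n) K →+* F := (algebraMap _ F).comp (Ideal.Quotient.mk 𝔯)
  have hπ0 : ∀ p, πF p = 0 ↔ p ∈ 𝔯 := fun p =>
    (map_eq_zero_iff (algebraMap (MvPolynomial (Fin n) K ⧸ 𝔯) F) (IsFractionRing.injective _ _)).trans Ideal.Quotient.eq_zero_iff_mem
  let θ : MvPolynomial (Fin n) A →+* F := πF.comp (map α)
  have hθ : ∀ s : q.primeCompl, IsUnit (θ s) := fun s => isUnit_iff_ne_zero.2 fun h0 =>
    Set.disjoint_left.1 hdisj ((hπ0 _).1 h0) ⟨s, s.2, rfl⟩
  let θq : Localization.AtPrime q →+* F := IsLocalization.lift hθ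
  have hθq : ∀ x, θq (algebraMap _ _ x) = θ x := fun x => IsLocalization.lift_eq hθ x
  obtain ⟨V', hle, hloc⟩ := (LocalSubring.range θq).exists_le_valuationSubring
  have hmem : ∀ y, θq y ∈ V' := fun y => hle ⟨y, rfl⟩
  have hmem' : ∀ x, θ x ∈ V' := fun x => hθq x ▸ hmem _
  have hnu : ∀ x ∈ q, ¬ IsUnit (⟨θ x, hmem' x⟩ : V') := by
    intro x hx hu
    have hx' : θ x ∈ (LocalSubring.range θq).toSubring := ⟨algebraMap _ _ x, hθq x⟩
    have hu' : IsUnit (⟨θ x, hx'⟩ : (LocalSubring.range θq).toSubring) := hloc.map_nonunit _ hu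
    obtain ⟨⟨_, y, rfl⟩, hy⟩ := isUnit_iff_exists_inv.1 hu'
    have h1 : θq (algebraMap (MvPolynomial (Fin n) A) (Localization.AtPrime q) x * y - 1) = 0 := by
      rw [map_sub, map_mul, hθq, map_one, sub_eq_zero]
      exact congrArg Subtype.val hy
    change θq (algebraMap (MvPolynomial (Fin n) A) (Localization.AtPrime q) x * y - 1) = 0 at h1
    have h2 := le_maximalIdeal (RingHom.ker_ne_top θq) (RingHom.mem_ker.2 h1)
    have h3 : algebraMap (MvPolynomial (Fin n) A) (Localization.AtPrime q) x * y ∈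
        maximalIdeal (Localization.AtPrime q) :=
      Ideal.mul_mem_right _ _ (by rw [IsLocalization.AtPrime.to_map_mem_maximal_iff (Localization.AtPrime q) q]; exact hx)
    exact (maximalIdeal.isMaximal (Localization.AtPrime q)).ne_top ((Ideal.eq_top_iff_one _).2
      (by simpa using sub_mem h3 h2))
  let κF : K →+* F := πF.comp C
  let V : ValuationSubring K := V'.comap κF
  have hκα : ∀ a, κF (α a) = θ (C a) := fun a => by simp [κF, θ]
  let ι : A →+* V := α.codRestrict V.toSubring fun a => by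
    show κF (α a) ∈ V'
    rw [hκα]; exact hmem' _
  have hι : V.subtype.comp ι = α := RingHom.ext fun a => rfl
  let jV : V →+* V' := (κF.comp V.subtype).codRestrict V'.toSubring fun x => x.2
  let θV : MvPolynomial (Fin n) V →+* V' := eval₂Hom jV fun i => ⟨θ (X i), hmem' _⟩
  have hθV : V'.subtype.comp θV = πF.comp (map V.subtype) := by
    refine MvPolynomial.ringHom_ext (fun a => ?_) fun i => ?_
    · simp [θV, jV, κF]
    · simp [θV, θ]
  let qV : Ideal (MvPolynomial (Fin n) V) := (maximalIdeal V').comap θV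
  have hqVunit : ∀ s, s ∉ q → map ι s ∉ qV := by
    intro s hs h
    have hval : (θV (map ι s) : F) = θ s := by
      have := RingHom.congr_fun hθV (map ι s)
      simp only [RingHom.comp_apply, MvPolynomial.map_map, hι] at this
      exact this
    refine (mem_maximalIdeal _).1 h (isUnit_iff_exists_inv.2
      ⟨⟨θq (IsLocalization.mk' (Localization.AtPrime q) 1 (⟨s, hs⟩ : q.primeCompl)), hmem _⟩, Subtype.ext ?_⟩)
    show (θV (map ι s) : F) * θq _ = 1
    rw [hval, ← hθq, ← map_mul, IsLocalization.mk'_spec'_mk, map_one, map_one]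
  have hjV : ∀ v ∈ maximalIdeal V, C v ∈ qV := by
    intro v hv
    show θV (C v) ∈ maximalIdeal V'
    rw [show θV (C v) = jV v by simp [θV], mem_maximalIdeal]
    intro hu
    obtain ⟨w, hw⟩ := isUnit_iff_exists_inv.1 hu
    have hw' : κF (v : K) * (w : F) = 1 := congrArg Subtype.val hw
    have hv0 : κF (v : K) ≠ 0 := left_ne_zero_of_mul_eq_one hw'
    have hinv : (v : K)⁻¹ ∈ V := by
      show κF (v : K)⁻¹ ∈ V'
      rw [map_inv₀, inv_eq_of_mul_eq_one_right hw']
      exact w.2
    exact (mem_maximalIdeal _).1 hv (isUnit_iff_exists_inv.2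
      ⟨⟨_, hinv⟩, Subtype.ext (mul_inv_cancel₀ fun h => hv0 (by rw [h, map_zero]))⟩)
  -- the torsion free quotient
  let Sat : Submodule (MvPolynomial (Fin n) V) (Vec V n r) :=
    { carrier := {v | mapV V.subtype v ∈ Submodule.span (MvPolynomial (Fin n) K) (mapV α '' R)}
      add_mem' := fun ha hb => by rw [Set.mem_setOf_eq, mapV_add]; exact add_mem ha hb
      zero_mem' := by rw [Set.mem_setOf_eq, mapV_zero]; exact zero_mem _
      smul_mem' := fun p a ha => by rw [Set.mem_setOf_eq, mapV_smul]; exact Submodule.smul_mem _ _ ha }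
  have hSat : ∀ v, v ∈ Sat ↔
      mapV V.subtype v ∈ Submodule.span (MvPolynomial (Fin n) K) (mapV α '' R) := fun v => Iff.rfl
  let T := Vec V n r ⧸ Sat
  let NV := LocalizedModule qV.primeCompl T
  let l : T →ₗ[MvPolynomial (Fin n) V] NV := LocalizedModule.mkLinearMap qV.primeCompl T
  have htf : ∀ (σ : V) (z : T), σ ≠ 0 → σ • z = 0 → z = 0 := by
    intro σ z hσ hz
    obtain ⟨v, rfl⟩ := Submodule.Quotient.mk_surjective _ z
    rw [← C_smul (n := n), ← Submodule.Quotient.mk_smul, Submodule.Quotient.mk_eq_zero, hSat] at hz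
    rw [Submodule.Quotient.mk_eq_zero, hSat]
    rw [mapV_smul, map_C] at hz
    have hσ' : (σ : K) ≠ 0 := fun h => hσ (Subtype.ext h)
    have := Submodule.smul_mem _ (C (σ : K)⁻¹ : MvPolynomial (Fin n) K) hz
    rwa [smul_smul, ← map_mul, show (σ : K)⁻¹ * V.subtype σ = 1 from inv_mul_cancel₀ hσ', map_one, one_smul] at this
  haveI : Module.Flat V NV := by
    refine Module.Flat.flat_iff_torsion_eq_bot_of_isBezout.2 (le_antisymm (fun y hy => ?_) bot_le)
    obtain ⟨⟨σ, hσ⟩, hσy⟩ := hy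
    obtain ⟨⟨z, s⟩, hs⟩ := IsLocalizedModule.surj qV.primeCompl l y
    have h0 : l (σ • z) = 0 := by
      rw [LinearMap.map_smul_of_tower, ← hs]
      show σ • ((s : MvPolynomial (Fin n) V) • y) = 0
      rw [smul_comm, show σ • y = 0 from hσy, smul_zero]
    obtain ⟨t, ht⟩ := (IsLocalizedModule.eq_zero_iff qV.primeCompl l).1 h0
    have h1 : l z = 0 := (IsLocalizedModule.eq_zero_iff qV.primeCompl l).2
      ⟨t, htf σ _ (nonZeroDivisors.ne_zero hσ) (by rw [smul_comm]; exact ht)⟩
    rw [Submodule.mem_bot]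
    refine ((Module.End.isUnit_iff _).1 (IsLocalizedModule.map_units l s)).1 ?_
    simp only [Module.algebraMap_end_apply, smul_zero]
    exact hs.trans h1
  let B := Localization.AtPrime qV
  haveI : Algebra.EssFiniteType (MvPolynomial (Fin n) V) B := Algebra.EssFiniteType.of_isLocalization B qV.primeCompl
  haveI : Algebra.EssFiniteType V B := Algebra.EssFiniteType.comp V (MvPolynomial (Fin n) V) B
  haveI : IsLocalHom (algebraMap V B) := ⟨fun a ha => by
    by_contra h
    refine (mem_maximalIdeal _).1 ?_ ha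
    rw [IsScalarTower.algebraMap_apply V (MvPolynomial (Fin n) V) B,
      IsLocalization.AtPrime.to_map_mem_maximal_iff B qV]
    exact hjV a ((mem_maximalIdeal _).2 h)⟩
  haveI : Module.Finite B NV := Module.Finite.of_isLocalizedModule qV.primeCompl l
  let ξV : NV := l (Submodule.Quotient.mk (mapV ι v₀))
  obtain ⟨I, hIp, hξI, hImin⟩ := Groth.Agent.S1216.result (A := V) (B := B) NV ξV
  haveI := hIp
  let g : V := Submodule.IsPrincipal.generator I
  have hξV : ξV ≠ 0 := by
    intro h0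
    obtain ⟨⟨t, ht⟩, htz⟩ := (IsLocalizedModule.eq_zero_iff qV.primeCompl l).1 h0
    rw [Submonoid.mk_smul] at htz
    have htz := (hSat _).1 ((Submodule.Quotient.mk_eq_zero Sat).1 htz)
    have hcomp : mapV V.subtype (mapV ι v₀) = mapV α v₀ := funext fun i => by
      rw [mapV, mapV, MvPolynomial.map_map, hι]; rfl
    rw [mapV_smul, hcomp] at htz
    have h𝔯 : map V.subtype t ∈ 𝔯 := hAnn (show map V.subtype t • ξ = 0 by
      rw [← Submodule.Quotient.mk_smul, Submodule.Quotient.mk_eq_zero]; exact htz)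
    refine ht ((mem_maximalIdeal _).2 fun hu => ?_)
    have h0' : (θV t : F) = 0 := (RingHom.congr_fun hθV t).trans ((hπ0 _).2 h𝔯)
    exact hu.ne_zero (Subtype.ext h0')
  have hg0 : g ≠ 0 := fun h => hξV (by
    have hI : I = ⊥ := (Submodule.IsPrincipal.eq_bot_iff_generator_eq_zero I).2 h
    rw [hI, Submodule.bot_smul, Submodule.mem_bot] at hξI
    exact hξI)
  have hgc : ∀ c, c ∉ P → ι c ∣ g := by
    intro c hc
    obtain ⟨v, t, ht, s, hs, hv⟩ := hdiv c hc
    have hst : map ι (s * t) ∉ qV := hqVunit _ fun h => (Ideal.IsPrime.mem_or_mem inferInstance h).elim hs ht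
    have hsat' : mapV ι (s • (t • v₀ - (C c : MvPolynomial (Fin n) A) • v)) ∈ Sat := by
      obtain ⟨a, ha, w, hw, hab⟩ := Submodule.mem_sup.1 hv
      rw [hSat]
      have hcomp : ∀ x : Vec A n r, mapV V.subtype (mapV ι x) = mapV α x := fun x => funext fun i => by
        rw [mapV, mapV, MvPolynomial.map_map, hι]; rfl
      rw [hcomp, ← hab, mapV_add, show mapV α w = 0 from (mapV_eq_zero α).2 (by rw [hkα]; exact hw), add_zero]
      exact mapV_mem_span α ha
    rw [smul_sub, smul_smul, smul_comm s, mapV_sub, mapV_smul, mapV_smul, map_C] at hsat'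
    have h1 : map ι (s * t) • ξV = ι c • l (Submodule.Quotient.mk (mapV ι (s • v))) := by
      rw [← C_smul (n := n) (ι c) (l (Submodule.Quotient.mk (mapV ι (s • v)))), ← map_smul l, ← map_smul l,
        ← Submodule.Quotient.mk_smul, ← Submodule.Quotient.mk_smul, (Submodule.Quotient.eq Sat).2 hsat']
    have hb : Function.Bijective fun y : NV => map ι (s * t) • y :=
      (Module.End.isUnit_iff _).1 (IsLocalizedModule.map_units l (⟨_, hst⟩ : qV.primeCompl))
    let e : NV ≃ₗ[V] NV := LinearEquiv.ofBijective ((DistribSMul.toLinearMap V NV (map ι (s * t))) : NV →ₗ[V] NV) hb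
    have h2 : ξV = ι c • e.symm (l (Submodule.Quotient.mk (mapV ι (s • v)))) := by
      rw [← map_smul, ← h1]; exact (e.symm_apply_apply _).symm
    have h3 : I ≤ Ideal.span {ι c} := hImin _ (by
      rw [h2]; exact Submodule.smul_mem_smul (Ideal.mem_span_singleton_self _) trivial)
    exact Ideal.mem_span_singleton.1 (h3 (Submodule.IsPrincipal.generator_mem I))
  obtain ⟨a, σ, hσ, hga⟩ := hfrac (g : K)
  have ha : a ∉ P := fun h => hg0 (Subtype.ext (by
    rw [(hα0 a).2 h, mul_eq_zero] at hga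
    exact hga.resolve_left fun h' => hσ ((hα0 σ).1 h')))
  obtain ⟨h, hh⟩ := hgc (a * a₀) fun h => (Ideal.IsPrime.mem_or_mem inferInstance h).elim ha ha₀P
  have h1 : α a * 1 = α a * (α a₀ * (α σ * (h : K))) := by
    have : (g : K) = α (a * a₀) * (h : K) := congrArg Subtype.val hh
    rw [mul_one]
    nth_rewrite 1 [← hga]
    rw [this, map_mul]; ring
  have h2 : ι a₀ * (ι σ * h) = 1 := Subtype.ext (mul_left_cancel₀ (fun h => ha ((hα0 a).1 h)) h1).symm
  have hu : IsUnit (ι a₀) := IsUnit.of_mul_eq_one _ h2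
  refine hnu (C a₀) (hq a₀ ha₀) ?_
  have h3 := hu.map jV
  have he : jV (ι a₀) = ⟨θ (C a₀), hmem' _⟩ := Subtype.ext (hκα a₀)
  rwa [he] at h3

end Groth.Agent.H10.UInj.Valn
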