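import Groth.Agent.H10.UInj.Socle
import Groth.Agent.H10.UInj.Valn

/-!
# Maps into flat modules which are injective on the closed fibre, linear over the base only
-/

set_option autoImplicit false
noncomputable section

universe u

open MvPolynomial
open Groth.Agent.H10.UInj.Base

namespace Groth.Agent.H10.UInj.Inj

open IsLocalRing

/-- The socle obtained from a local ring at the zero divisors. -/
theorem exists_socle_colon {A : Type u} [CommRing A] {n r : ℕ}
    (q : Ideal (MvPolynomial (Fin n) A)) [q.IsPrime]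
    (R : Set (Vec A n r)) (hR : R.Finite)
    {N : Type u} [AddCommGroup N] [Module (MvPolynomial (Fin n) A) N] [Module A N]
    [IsScalarTower A (MvPolynomial (Fin n) A) N] [Module.Flat A N]
    (f : Vec A n r →ₗ[MvPolynomial (Fin n) A] N) (hf : IsPres q R f)
    (H P : Ideal A) [hPp : P.IsPrime] (x : N) (hxH : x ∉ H • (⊤ : Submodule A N))
    (hmax : ∀ c, c ∉ H → ∃ y, x - c • y ∈ H • (⊤ : Submodule A N))
    (hP : ∀ d, d ∈ P ↔ d • x ∈ H • (⊤ : Submodule A N))
    (hzd : ∀ d, d ∈ P ↔ ∃ c, c ∉ H ∧ c * d ∈ H)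
    {D : Type u} [CommRing D] [IsLocalRing D] (φ : A →+* D)
    (hunit : ∀ σ, σ ∉ P → IsUnit (φ σ)) (hfrac : ∀ b : D, ∃ a, ∃ σ ∈ P.primeCompl, φ σ * b = φ a)
    (hφ0 : ∀ a, φ a = 0 ↔ a ∈ H) :
    ∃ e, e ∉ H ∧ ∀ d ∈ P, d * e ∈ H := by
  classical
  have hkφ : RingHom.ker φ = H := Ideal.ext fun a => hφ0 a
  have hφm : ∀ a, φ a ∈ maximalIdeal D → a ∈ P := fun a ha => by
    by_contra h
    exact (mem_maximalIdeal _).1 ha (hunit a h)
  -- a point of the fibre where `x` survives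
  obtain ⟨v₀, s₀, hs₀, hv₀⟩ := hf.surj x
  let ξ : Vec D n r ⧸ Submodule.span (MvPolynomial (Fin n) D) (mapV φ '' R) := Submodule.Quotient.mk (mapV φ v₀)
  have hξ : ∀ s, s ∉ q → map φ s • ξ ≠ 0 := by
    intro s hs h0
    rw [← Submodule.Quotient.mk_smul, ← mapV_smul, Submodule.Quotient.mk_eq_zero] at h0
    obtain ⟨σ, hσ, h⟩ := exists_clear φ P.primeCompl hfrac h0
    rw [hkφ, smul_comm] at h
    have h1 := (map_mem_smul_iff (J := H) hf).2 ⟨s, hs, h⟩
    rw [map_smul, C_smul, ← hv₀, smul_comm] at h1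
    exact hσ ((hP σ).2 (hf.mem_of_smul_mem hs₀ h1))
  let Ann : Ideal (MvPolynomial (Fin n) D) := LinearMap.ker (LinearMap.toSpanSingleton _ _ ξ)
  obtain ⟨Q, hQp, hAnn, hdisj⟩ := Ideal.exists_le_prime_disjoint (I := Ann)
    (q.primeCompl.map (map φ : MvPolynomial (Fin n) A →+* MvPolynomial (Fin n) D)) (Set.disjoint_left.2 (by
      rintro _ h ⟨s, hs, rfl⟩
      exact hξ s hs h))
  haveI := hQp
  have hqQ : ∀ s, s ∉ q → map φ s ∉ Q := fun s hs h => Set.disjoint_left.1 hdisj h ⟨s, hs, rfl⟩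
  have hCu : ∀ σ, σ ∉ P → (C (φ σ) : MvPolynomial (Fin n) D) ∉ Q := fun σ hσ h =>
    hQp.ne_top (Ideal.eq_top_of_isUnit_mem _ h ((hunit σ hσ).map C))
  have hbot : ∀ v, Mem q R H v → Mem Q (mapV φ '' R) ⊥ (mapV φ v) := fun v hv => by
    have := hv.mapV (φ := φ) (Q := Q) hqQ
    rwa [show H.map φ = ⊥ from (Ideal.map_eq_bot_iff_le_ker φ).2 hkφ.ge] at this
  have hsx : ∀ a, a ∈ P → Mem q R H ((C a : MvPolynomial (Fin n) A) • v₀) := fun a ha => by
    rw [← map_mem_smul_iff hf, map_smul, C_smul, ← hv₀, smul_comm]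
    exact smul_mem_of_mem _ ((hP a).1 ha)
  have hQm : ∀ d ∈ maximalIdeal D, C d ∈ Q := by
    intro d hd
    obtain ⟨a, σ, hσ, h⟩ := hfrac d
    have ha : a ∈ P := hφm a (h ▸ Ideal.mul_mem_left _ _ hd)
    obtain ⟨t, ht, htv⟩ := hbot _ (hsx a ha)
    rw [jv_bot, sup_bot_eq, mapV_smul, map_C, smul_smul] at htv
    have : t * C (φ a) ∈ Q := hAnn (show (t * C (φ a)) • ξ = 0 by
      rw [← Submodule.Quotient.mk_smul, Submodule.Quotient.mk_eq_zero]; exact htv)
    rw [← h, map_mul] at this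
    exact (hQp.mem_or_mem ((hQp.mem_or_mem this).resolve_left ht)).resolve_left (hCu σ hσ)
  obtain ⟨eD, heD0, heD⟩ := Socle.exists_socle Q hQm (mapV φ '' R) (hR.image _) (by
      intro c K hK v hv
      obtain ⟨t, ht, htv⟩ := hv
      rw [jv_bot, sup_bot_eq] at htv
      obtain ⟨a, σ, hσ, hσc⟩ := hfrac c
      obtain ⟨τ, hτ, v', hv'⟩ := exists_vec_lift φ P.primeCompl hfrac v
      obtain ⟨π, hπ, t', ht'⟩ := exists_poly_lift φ P.primeCompl hfrac t
      have h1 : mapV φ (t' • (C a : MvPolynomial (Fin n) A) • v') ∈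
          Submodule.span (MvPolynomial (Fin n) D) (mapV φ '' R) := by
        rw [mapV_smul, mapV_smul, map_C, ← ht', ← hv', ← hσc, map_mul, smul_smul, smul_smul]
        have := Submodule.smul_mem _ (C (φ π) * C (φ σ) * C (φ τ)) htv
        rw [smul_smul, smul_smul] at this
        convert this using 2
        ring
      obtain ⟨ω, hω, h2⟩ := exists_clear φ P.primeCompl hfrac h1
      rw [hkφ] at h2
      have h3 : a • f ((C ω : MvPolynomial (Fin n) A) • t' • v') ∈ H • (⊤ : Submodule A N) := by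
        rw [← C_smul (n := n), ← map_smul, map_mem_smul_iff hf]
        refine ⟨1, fun h => (Ideal.IsPrime.ne_top inferInstance : q ≠ ⊤) ((Ideal.eq_top_iff_one q).2 h), ?_⟩
        rw [one_smul, smul_comm, smul_comm (C a)]
        exact h2
      obtain ⟨K₀, hK₀, h4⟩ := exists_colon H (fun _ : PUnit.{u + 1} => a) _ fun _ => h3
      have h5 := (((map_mem_smul_iff hf).1 h4).mapV (φ := φ) (Q := Q) hqQ).mono (J' := K) (Ideal.map_le_iff_le_comap.2
        fun b hb => hK (φ b) ((hunit σ hσ).mul_right_eq_zero.1 (by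
          rw [mul_left_comm, hσc, ← map_mul, hφ0]; exact (hK₀ b).1 hb PUnit.unit)))
      rw [mapV_smul, mapV_smul, map_C, ← ht', ← hv'] at h5
      exact ((h5.of_smul (hCu ω hω)).of_smul
        (fun h => (hQp.mem_or_mem h).elim (hCu π hπ) ht)).of_smul (hCu τ hτ))
    (by
      intro F hF
      choose a σ hσ ha using fun d : F => hfrac d
      obtain ⟨K, hK, hxK⟩ := exists_colon H a x fun d => (hP _).1 (hφm _ (ha d ▸ Ideal.mul_mem_left _ _ (hF d d.2)))
      by_contra! h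
      refine hxH (Submodule.smul_mono_left (fun c hc => ?_) hxK)
      by_contra hcH
      obtain ⟨d, hd, hdc⟩ := h (φ c) fun h => hcH ((hφ0 c).1 h)
      refine hdc ((hunit _ (hσ ⟨d, hd⟩)).mul_right_eq_zero.1 ?_)
      rw [← mul_assoc, ha ⟨d, hd⟩, ← map_mul, hφ0, mul_comm]
      exact (hK c).1 hc ⟨d, hd⟩)
    (mapV φ v₀) (by
      rintro ⟨t, ht, htv⟩
      rw [jv_bot, sup_bot_eq] at htv
      exact ht (hAnn (show t • ξ = 0 by
        rw [← Submodule.Quotient.mk_smul, Submodule.Quotient.mk_eq_zero]; exact htv)))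
    (by
      intro d hd
      obtain ⟨a, σ, hσ, h⟩ := hfrac d
      have := hbot _ (hsx a (hφm a (h ▸ Ideal.mul_mem_left _ _ hd)))
      rw [mapV_smul, map_C, ← h, map_mul, mul_smul] at this
      exact this.of_smul (hCu σ hσ))
    (by
      intro c hc
      obtain ⟨a, σ, hσ, h⟩ := hfrac c
      have haH : a ∉ H := fun ha => hc ((hunit σ hσ).mul_right_eq_zero.1 (by rw [h, hφ0]; exact ha))
      obtain ⟨y, hy⟩ := hmax a haH
      obtain ⟨w, s₁, hs₁, hw⟩ := hf.surj y
      refine ⟨(C (φ σ) : MvPolynomial (Fin n) D) • map φ s₀ • mapV φ w, map φ s₁, hqQ _ hs₁, ?_⟩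
      have h1 : Mem q R H (s₁ • v₀ - (C a : MvPolynomial (Fin n) A) • s₀ • w) := by
        rw [← map_mem_smul_iff hf, map_sub, map_smul, map_smul, map_smul, ← hv₀, ← hw, C_smul,
          smul_comm s₀ s₁ y, ← smul_comm s₁ a, ← smul_sub, ← smul_comm s₀ a, ← smul_sub]
        exact smul_mem_of_mem _ (smul_mem_of_mem _ hy)
      have h2 := hbot _ h1
      rw [mapV_sub, mapV_smul, mapV_smul, mapV_smul, map_C, ← h, map_mul, mul_comm (C (φ σ)), mul_smul] at h2
      exact h2)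
  obtain ⟨e, σ, hσ, he⟩ := hfrac eD
  have heH : e ∉ H := fun h => heD0 ((hunit σ hσ).mul_right_eq_zero.1 (by rw [he, hφ0]; exact h))
  have hePH : ∀ d ∈ P, d * e ∈ H := fun d hd => by
    rw [← hφ0, map_mul, ← he, mul_left_comm, heD (φ d) ?_, mul_zero]
    exact (mem_maximalIdeal _).2 fun hu => by
        obtain ⟨c, hc, hcd⟩ := (hzd d).1 hd
        exact hc ((hφ0 c).1 (hu.mul_left_eq_zero.1 (by rw [← map_mul, hφ0]; exact hcd)))
  exact ⟨e, heH, hePH⟩

theorem mem_smul_of_map_mem {A : Type u} [CommRing A] [IsLocalRing A] {n r : ℕ}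
    (q : Ideal (MvPolynomial (Fin n) A)) [q.IsPrime] (hq : ∀ a ∈ maximalIdeal A, C a ∈ q)
    (R : Set (Vec A n r)) (hR : R.Finite)
    {N : Type u} [AddCommGroup N] [Module (MvPolynomial (Fin n) A) N] [Module A N]
    [IsScalarTower A (MvPolynomial (Fin n) A) N] [Module.Flat A N]
    (f : Vec A n r →ₗ[MvPolynomial (Fin n) A] N) (hf : IsPres q R f)
    {M : Type u} [AddCommGroup M] [Module A M] [Module.Flat A M] (u : N →ₗ[A] M)
    (hu : ∀ x, u x ∈ maximalIdeal A • (⊤ : Submodule A M) → x ∈ maximalIdeal A • (⊤ : Submodule A N))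
    (I : Ideal A) (x : N) (hx : u x ∈ I • (⊤ : Submodule A M)) : x ∈ I • (⊤ : Submodule A N) := by
  classical
  by_contra hxI
  obtain ⟨H, hIH, hH⟩ := zorn_le_nonempty₀ {H : Ideal A | x ∉ H • (⊤ : Submodule A N)} (fun c hc hc' y hy => by
    haveI : Nonempty c := ⟨⟨y, hy⟩⟩
    refine ⟨sSup c, fun hmem => ?_, fun z hz => le_sSup hz⟩
    rw [sSup_eq_iSup', Submodule.iSup_smul] at hmem
    obtain ⟨⟨J, hJ⟩, hxJ⟩ := (Submodule.mem_iSup_of_directed (fun J : c => (J : Ideal A) • (⊤ : Submodule A N))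
      (hc'.directed.mono_comp _ (g := fun J : Ideal A => J • (⊤ : Submodule A N))
        (fun _ _ h => Submodule.smul_mono_left h))).1 hmem
    exact hc hJ hxJ) I hxI
  have hxH : x ∉ H • (⊤ : Submodule A N) := hH.1
  -- every element outside `H` divides `x`
  have hmax : ∀ c, c ∉ H → ∃ y, x - c • y ∈ H • (⊤ : Submodule A N) := by
    intro c hc
    have h : x ∈ (H ⊔ Ideal.span {c}) • (⊤ : Submodule A N) := by
      by_contra h
      exact hc (hH.2 h le_sup_left (Ideal.mem_sup_right (Ideal.mem_span_singleton_self c)))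
    rw [Submodule.sup_smul, Submodule.mem_sup] at h
    obtain ⟨z, hz, w, hw, hzw⟩ := h
    rw [Submodule.ideal_span_singleton_smul, Submodule.mem_smul_pointwise_iff_exists] at hw
    obtain ⟨y, -, rfl⟩ := hw
    exact ⟨y, by rwa [← hzw, add_sub_cancel_right]⟩
  let P : Ideal A := (H • (⊤ : Submodule A N)).comap (LinearMap.toSpanSingleton A N x)
  have hP : ∀ d, d ∈ P ↔ d • x ∈ H • (⊤ : Submodule A N) := fun d => Iff.rfl
  have hHP : H ≤ P := fun d hd => Submodule.smul_mem_smul hd trivial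
  have hzd : ∀ d, d ∈ P ↔ ∃ c, c ∉ H ∧ c * d ∈ H := by
    intro d
    constructor
    · intro hd
      obtain ⟨K, hK, hxK⟩ := exists_colon H (fun _ : PUnit.{u + 1} => d) x fun _ => hd
      by_contra! h
      refine hxH (Submodule.smul_mono_left (fun a ha => ?_) hxK)
      by_contra ha'
      exact h a ha' ((hK a).1 ha PUnit.unit)
    · rintro ⟨c, hc, hcd⟩
      obtain ⟨y, hy⟩ := hmax c hc
      rw [hP, show d • x = d • (x - c • y) + (c * d) • y by rw [smul_sub, smul_smul, mul_comm d c, sub_add_cancel]]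
      exact add_mem (Submodule.smul_mem _ _ hy) (Submodule.smul_mem_smul hcd trivial)
  have hnzd : ∀ σ, σ ∉ P → ∀ c, c * σ ∈ H → c ∈ H := fun σ hσ c hc => by
    by_contra h
    exact hσ ((hzd σ).2 ⟨c, h, hc⟩)
  haveI hPp : P.IsPrime := by
    refine ⟨fun h => hxH ?_, fun {a b} hab => or_iff_not_imp_left.2 fun ha => ?_⟩
    · have := (hP 1).1 (h ▸ Submodule.mem_top)
      rwa [one_smul] at this
    · rw [hP, mul_smul] at hab
      exact mem_of_smul_mem H H a (hnzd a ha) _ hab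
  -- the local ring at the zero divisors
  let Ap := Localization.AtPrime P
  let D := Ap ⧸ H.map (algebraMap A Ap)
  have hne : H.map (algebraMap A Ap) ≤ maximalIdeal Ap := by
    rw [← Localization.AtPrime.map_eq_maximalIdeal]; exact Ideal.map_mono hHP
  haveI : Nontrivial D := Ideal.Quotient.nontrivial_iff.2 fun h =>
    (maximalIdeal.isMaximal Ap).ne_top (top_le_iff.1 (h ▸ hne))
  haveI : IsLocalRing D := IsLocalRing.of_surjective' (Ideal.Quotient.mk _) Ideal.Quotient.mk_surjective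
  let φ : A →+* D := (Ideal.Quotient.mk _).comp (algebraMap A Ap)
  have hunit : ∀ σ, σ ∉ P → IsUnit (φ σ) := fun σ hσ =>
    (IsLocalization.map_units Ap (⟨σ, hσ⟩ : P.primeCompl)).map (Ideal.Quotient.mk (H.map (algebraMap A Ap)))
  have hfrac : ∀ b : D, ∃ a, ∃ σ ∈ P.primeCompl, φ σ * b = φ a := by
    intro b
    obtain ⟨z, rfl⟩ := Ideal.Quotient.mk_surjective b
    obtain ⟨⟨a, σ⟩, h⟩ := IsLocalization.surj P.primeCompl z
    refine ⟨a, σ, σ.2, ?_⟩
    show Ideal.Quotient.mk _ _ * Ideal.Quotient.mk _ _ = Ideal.Quotient.mk _ _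
    rw [← map_mul, mul_comm]
    exact congrArg _ h
  have hφ0 : ∀ a, φ a = 0 ↔ a ∈ H := by
    intro a
    refine ⟨fun h => ?_, fun h => Ideal.Quotient.eq_zero_iff_mem.2 (Ideal.mem_map_of_mem _ h)⟩
    obtain ⟨σ, hσ, hσa⟩ := (IsLocalization.algebraMap_mem_map_algebraMap_iff P.primeCompl Ap _ _).1
      (Ideal.Quotient.eq_zero_iff_mem.1 h)
    exact hnzd σ hσ a (mul_comm σ a ▸ hσa)
  obtain ⟨e, heH, hePH⟩ := exists_socle_colon q R hR f hf H P x hxH hmax hP hzd φ hunit hfrac hφ0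
  obtain ⟨y, hy⟩ := hmax e heH
  have hKP : ∀ a, a * e ∈ H → a ∈ P := fun a ha => (hzd a).2 ⟨e, heH, by rwa [mul_comm]⟩
  have hyP : y ∉ P • (⊤ : Submodule A N) := by
    intro h
    have h1 : e • y ∈ H • (⊤ : Submodule A N) := by
      refine Submodule.smul_induction_on h (fun d hd z _ => ?_) fun a b ha hb => by
        rw [smul_add]; exact add_mem ha hb
      rw [smul_smul, mul_comm]
      exact Submodule.smul_mem_smul (hePH d hd) trivial
    exact hxH (by simpa using add_mem hy h1)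
  obtain ⟨v₁, s₁, hs₁, hv₁⟩ := hf.surj y
  have hPm : P = maximalIdeal A := by
    refine Valn.eq_maximalIdeal q hq R P (fun σ hσ v hv => ?_) v₁ (fun h => ?_) fun c hc => ?_
    · rw [← map_mem_smul_iff hf] at hv ⊢
      rw [map_smul, C_smul] at hv
      exact mem_of_smul_mem P P σ (fun a ha => (hPp.mem_or_mem ha).resolve_right hσ) _ hv
    · rw [← map_mem_smul_iff hf, ← hv₁] at h
      exact hyP (hf.mem_of_smul_mem hs₁ h)
    · obtain ⟨y', hy'⟩ := hmax (e * c) fun h => hc (hKP c (by rwa [mul_comm]))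
      obtain ⟨v₂, s₂, hs₂, hv₂⟩ := hf.surj y'
      refine ⟨s₁ • v₂, s₂, hs₂, ?_⟩
      rw [← map_mem_smul_iff hf, map_sub, map_smul, map_smul, map_smul, ← hv₁, ← hv₂, C_smul,
        smul_comm s₁ s₂ y', ← smul_comm s₂ c, ← smul_sub, ← smul_comm s₁ c, ← smul_sub]
      refine smul_mem_of_mem _ (smul_mem_of_mem _ (mem_of_smul_mem H P e hKP _ ?_))
      have h2 : e • (y - c • y') = (x - (e * c) • y') - (x - e • y) := by rw [smul_sub, smul_smul]; abel
      rw [h2]
      exact sub_mem hy' hy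
  refine hyP (hPm ▸ hu y (Submodule.smul_mono_left (hPm.le) (mem_of_smul_mem H P e hKP _ ?_)))
  have h1 : u (x - e • y) ∈ H • (⊤ : Submodule A M) := by
    have h2 : (H • (⊤ : Submodule A N)).map u ≤ H • ⊤ := by
      rw [Submodule.map_smul'']; exact Submodule.smul_mono le_rfl le_top
    exact h2 ⟨_, hy, rfl⟩
  rw [map_sub, map_smul] at h1
  have := sub_mem (Submodule.smul_mono_left hIH hx) h1
  rwa [sub_sub_cancel] at this

end Groth.Agent.H10.UInj.Inj
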