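import Groth.Agent.Lib.RelDiv.ExactFlat
import Groth.Agent.Lib.LocalFlat.SmulTop
import Mathlib.RingTheory.Flat.Basic
import Mathlib.LinearAlgebra.TensorProduct.RightExactness

/-!
# Universal injectivity from injectivity modulo all ideals
-/

set_option autoImplicit false

universe u

open TensorProduct

namespace Groth.Agent.H10.UInj.Pure

open Groth.Agent.Lib.LocalFlat.SmulTop

variable {A : Type u} [CommRing A] {M N : Type u} [AddCommGroup M] [Module A M] [AddCommGroup N] [Module A N]

theorem mulMap_natural {M' : Type u} [AddCommGroup M'] [Module A M'] (I : Ideal A) (v : M →ₗ[A] M')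
    (z : I ⊗[A] M) : mulMap I M' (v.lTensor I z) = v (mulMap I M z) := by
  induction z using TensorProduct.induction_on with
  | zero => simp
  | add a b ha hb => simp only [map_add, ha, hb]
  | tmul r y => simp [mulMap]

/-- A map into a flat module reflecting `I • ⊤` for all ideals is universally injective. -/
theorem rTensor_injective [Module.Flat A M] (u : N →ₗ[A] M)
    (hI : ∀ (I : Ideal A) (x : N), u x ∈ I • (⊤ : Submodule A M) → x ∈ I • (⊤ : Submodule A N))
    (Q : Type u) [AddCommGroup Q] [Module A Q] : Function.Injective (u.rTensor Q) := by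
  have hu : Function.Injective u := (injective_iff_map_eq_zero u).2 fun x hx => by
    simpa using hI ⊥ x (by simp [hx])
  let p : M →ₗ[A] M ⧸ LinearMap.range u := (LinearMap.range u).mkQ
  have he : Function.Exact u p := LinearMap.exact_map_mkQ_range u
  have hp : Function.Surjective p := Submodule.mkQ_surjective _
  haveI : Module.Flat A (M ⧸ LinearMap.range u) := by
    refine Module.Flat.iff_rTensor_injective'.2 fun I => ?_
    have hinj : Function.Injective (mulMap I M) :=
      (TensorProduct.lid A M).injective.comp
        (Module.Flat.rTensor_preserves_injective_linearMap _ I.injective_subtype)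
    refine (injective_iff_map_eq_zero _).2 fun z hz => ?_
    have hz' : mulMap I (M ⧸ LinearMap.range u) z = 0 := by
      show (TensorProduct.lid A _) (I.subtype.rTensor _ z) = 0
      rw [hz, map_zero]
    obtain ⟨w, rfl⟩ := LinearMap.lTensor_surjective I hp z
    rw [mulMap_natural] at hz'
    obtain ⟨n, hn⟩ := (he _).1 hz'
    have hn' : n ∈ I • (⊤ : Submodule A N) := hI I n (by
      rw [hn, ← range_mulMap]; exact ⟨w, rfl⟩)
    rw [← range_mulMap] at hn'
    obtain ⟨w', rfl⟩ := hn'
    have hw : u.lTensor I w' = w := hinj (by rw [mulMap_natural, hn])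
    rw [← hw, ← LinearMap.comp_apply, ← LinearMap.lTensor_comp]
    rw [he.linearMap_comp_eq_zero, LinearMap.lTensor_zero, LinearMap.zero_apply]
  exact (LinearMap.lTensor_inj_iff_rTensor_inj _ _).1
    (Groth.Agent.Lib.RelDiv.ExactFlat.lTensor_injective hu he hp Q)

end Groth.Agent.H10.UInj.Pure
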