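import Groth.Agent.H10.UInj.Base
import Groth.Agent.Lib.LocalFlat.UnivInjective
import Groth.Agent.Lib.LocalFlat.SmulTop
import Mathlib.RingTheory.FiniteType
import Mathlib.RingTheory.Adjoin.FG
import Mathlib.RingTheory.TensorProduct.Free
import Mathlib.LinearAlgebra.StdBasis
import Mathlib.RingTheory.MvPolynomial.Basic
import Mathlib.RingTheory.Localization.FractionRing
import Mathlib.RingTheory.LocalRing.Quotient

/-!
# Socle elements from divisible elements of modules flat at a point
-/

set_option autoImplicit false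
noncomputable section

universe u

open MvPolynomial TensorProduct
open Groth.Agent.H10.UInj.Base

namespace Groth.Agent.H10.UInj.Socle

section Free

variable {L D' : Type u} [Field L] [CommRing D'] [Algebra L D'] {n r : ℕ}

/-- A presentation with relations defined over a field gives a free module. -/
theorem free_quotient (T : Set (Vec L n r)) :
    Module.Free D' (Vec D' n r ⧸ Submodule.span (MvPolynomial (Fin n) D') (mapV (algebraMap L D') '' T)) := by
  classical
  set S := Submodule.span (MvPolynomial (Fin n) D') (mapV (algebraMap L D') '' T) with hS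
  let SL := (Submodule.span (MvPolynomial (Fin n) L) T).restrictScalars L
  let bL := Pi.basis fun _ : Fin r => MvPolynomial.basisMonomials (Fin n) L
  let bD := Pi.basis fun _ : Fin r => MvPolynomial.basisMonomials (Fin n) D'
  let e : D' ⊗[L] Vec L n r ≃ₗ[D'] Vec D' n r := (Algebra.TensorProduct.basis D' bL).equiv bD (Equiv.refl _)
  let mapL : Vec L n r →ₗ[L] Vec D' n r :=
    { toFun := mapV (algebraMap L D')
      map_add' := mapV_add _
      map_smul' := fun a v => funext fun i => by
        ext m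
        simp [mapV, coeff_smul, Algebra.smul_def] }
  have he : ∀ v, e (1 ⊗ₜ v) = mapV (algebraMap L D') v := by
    intro v
    refine LinearMap.congr_fun (bL.ext (f₁ := (e.toLinearMap.restrictScalars L).comp
      ((TensorProduct.mk L D' (Vec L n r)) 1)) (f₂ := mapL) fun x => ?_) v
    obtain ⟨i, m⟩ := x
    show e ((1 : D') ⊗ₜ bL ⟨i, m⟩) = mapV (algebraMap L D') (bL ⟨i, m⟩)
    rw [← Algebra.TensorProduct.basis_apply (A := D') bL, Module.Basis.equiv_apply, Equiv.refl_apply]
    funext j
    by_cases hj : j = i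
    · subst hj; simp [bL, bD, mapV, Pi.basis_apply]
    · simp [bL, bD, mapV, Pi.basis_apply, Pi.single_eq_of_ne hj]
  let ψ : Vec D' n r →ₗ[D'] D' ⊗[L] (Vec L n r ⧸ SL) := (SL.mkQ.baseChange D').comp e.symm.toLinearMap
  have hsurj : Function.Surjective ψ :=
    (LinearMap.lTensor_surjective D' SL.mkQ_surjective).comp e.symm.surjective
  have hker : LinearMap.ker ψ = S.restrictScalars D' := by
    refine le_antisymm (fun v hv => ?_) fun v hv => ?_
    · have h0 : SL.mkQ.lTensor D' (e.symm v) = 0 := hv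
      obtain ⟨y, hy⟩ := ((lTensor_exact D' (LinearMap.exact_subtype_mkQ SL) SL.mkQ_surjective) _).1 h0
      have key : ∀ y, e (SL.subtype.lTensor D' y) ∈ S := by
        intro y
        induction y using TensorProduct.induction_on with
        | zero => simp
        | add a b ha hb => simp only [map_add]; exact add_mem ha hb
        | tmul a w =>
          rw [LinearMap.lTensor_tmul]
          have : (a ⊗ₜ[L] (SL.subtype w) : D' ⊗[L] Vec L n r) = a • ((1 : D') ⊗ₜ[L] (w : Vec L n r)) := by
            rw [TensorProduct.smul_tmul', smul_eq_mul, mul_one]; rfl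
          rw [this, map_smul, he]
          exact (S.restrictScalars D').smul_mem a (mapV_mem_span _ w.2)
      have := key y
      rwa [hy, e.apply_symm_apply] at this
    · have hgen : ∀ (w : Vec L n r) (p : MvPolynomial (Fin n) D'), w ∈ SL →
          ψ (p • mapV (algebraMap L D') w) = 0 := by
        intro w p hw
        induction p using MvPolynomial.induction_on' with
        | monomial m a =>
          have : monomial m a • mapV (algebraMap L D') w =
              a • mapV (algebraMap L D') ((monomial m (1 : L)) • w) := by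
            rw [mapV_smul, map_monomial, map_one, ← smul_assoc, smul_monomial, smul_eq_mul, mul_one]
          rw [this, map_smul, ← he]
          show a • SL.mkQ.lTensor D' (e.symm (e _)) = 0
          rw [e.symm_apply_apply, LinearMap.lTensor_tmul, Submodule.mkQ_apply,
            (Submodule.Quotient.mk_eq_zero SL).2 ((Submodule.span (MvPolynomial (Fin n) L) T).smul_mem _ hw),
            TensorProduct.tmul_zero, smul_zero]
        | add p q hp hq => rw [add_smul, map_add, hp, hq, add_zero]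
      have : ∀ (p : MvPolynomial (Fin n) D'), ψ (p • v) = 0 := by
        induction (hv : v ∈ S) using Submodule.span_induction with
        | mem x hx =>
          obtain ⟨w, hw, rfl⟩ := hx
          exact fun p => hgen w p (Submodule.subset_span hw)
        | zero => simp
        | add a b _ _ ha hb => intro p; rw [smul_add, map_add, ha, hb, add_zero]
        | smul q a _ ha => intro p; rw [smul_smul]; exact ha _
      simpa using this 1
  let e₁ := LinearMap.quotKerEquivOfSurjective ψ hsurj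
  exact Module.Free.of_equiv
    (e₁.symm.trans ((Submodule.quotEquivOfEq _ _ hker).trans (Submodule.Quotient.restrictScalarsEquiv D' S)))

end Free

variable {D : Type u} [CommRing D] [IsLocalRing D] {n r : ℕ}

open IsLocalRing

/-- A module at a point which contains a nonzero element divisible by every nonzero scalar and killed
by the maximal ideal forces a socle. -/
theorem exists_socle (Q : Ideal (MvPolynomial (Fin n) D)) [Q.IsPrime] (hQ : ∀ d ∈ maximalIdeal D, C d ∈ Q)
    (R : Set (Vec D n r)) (hR : R.Finite)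
    (hflat : ∀ (c : D) (K : Ideal D), (∀ a, a * c = 0 → a ∈ K) → ∀ v,
      Mem Q R ⊥ ((C c : MvPolynomial (Fin n) D) • v) → Mem Q R K v)
    (hann : ∀ F : Finset D, (∀ d ∈ F, d ∈ maximalIdeal D) → ∃ c : D, c ≠ 0 ∧ ∀ d ∈ F, d * c = 0)
    (v₀ : Vec D n r) (hv₀ : ¬ Mem Q R ⊥ v₀)
    (hm : ∀ d ∈ maximalIdeal D, Mem Q R ⊥ ((C d : MvPolynomial (Fin n) D) • v₀))
    (hdiv : ∀ c : D, c ≠ 0 → ∃ v t, t ∉ Q ∧ Mem Q R ⊥ (t • v₀ - (C c : MvPolynomial (Fin n) D) • v)) :
    ∃ e : D, e ≠ 0 ∧ ∀ d ∈ maximalIdeal D, d * e = 0 := by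
  classical
  -- the torsion of the fibre at the point
  let ρ := residue D
  let Γ : Submodule (MvPolynomial (Fin n) (ResidueField D)) (Vec (ResidueField D) n r) :=
    { carrier := {v | ∃ s, s ∉ Q ∧
        map ρ s • v ∈ Submodule.span (MvPolynomial (Fin n) (ResidueField D)) (mapV ρ '' R)}
      add_mem' := by
        rintro a b ⟨s, hs, ha⟩ ⟨t, ht, hb⟩
        refine ⟨s * t, fun h => (Ideal.IsPrime.mem_or_mem inferInstance h).elim hs ht, ?_⟩
        rw [map_mul, smul_add]
        refine add_mem ?_ ?_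
        · rw [mul_comm, mul_smul]; exact Submodule.smul_mem _ _ ha
        · rw [mul_smul]; exact Submodule.smul_mem _ _ hb
      zero_mem' := ⟨1, fun h => (Ideal.IsPrime.ne_top inferInstance : Q ≠ ⊤) ((Ideal.eq_top_iff_one Q).2 h),
        by rw [smul_zero]; exact zero_mem _⟩
      smul_mem' := by
        rintro p a ⟨s, hs, ha⟩
        exact ⟨s, hs, by rw [smul_comm]; exact Submodule.smul_mem _ _ ha⟩ }
  obtain ⟨G, hG⟩ : Γ.FG := IsNoetherian.noetherian Γ
  have hGΓ : ∀ g : G, (g : Vec (ResidueField D) n r) ∈ Γ := fun g => hG ▸ Submodule.subset_span g.2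
  have hliftSpan : ∀ y ∈ Submodule.span (MvPolynomial (Fin n) (ResidueField D)) (mapV ρ '' R),
      ∃ a ∈ Submodule.span (MvPolynomial (Fin n) D) R, mapV ρ a = y := by
    intro y hy
    induction hy using Submodule.span_induction with
    | mem x hx => obtain ⟨a, ha, rfl⟩ := hx; exact ⟨a, Submodule.subset_span ha, rfl⟩
    | zero => exact ⟨0, zero_mem _, mapV_zero _⟩
    | add a b _ _ ha hb =>
      obtain ⟨a', ha, rfl⟩ := ha
      obtain ⟨b', hb, rfl⟩ := hb
      exact ⟨a' + b', add_mem ha hb, mapV_add _ _ _⟩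
    | smul p a _ ha =>
      obtain ⟨a', ha, rfl⟩ := ha
      obtain ⟨p', rfl⟩ := map_surjective ρ residue_surjective p
      exact ⟨p' • a', Submodule.smul_mem _ _ ha, mapV_smul _ _ _⟩
  have hlift : ∀ g : G, ∃ (γ : Vec D n r) (s : MvPolynomial (Fin n) D) (a : Vec D n r), mapV ρ γ = g ∧ s ∉ Q ∧
      a ∈ Submodule.span (MvPolynomial (Fin n) D) R ∧ s • γ - a ∈ jv (maximalIdeal D) := by
    intro g
    choose γ hγ using fun i => map_surjective ρ residue_surjective ((g : Vec (ResidueField D) n r) i)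
    obtain ⟨s, hs, hsg⟩ := hGΓ g
    obtain ⟨a, ha, hag⟩ := hliftSpan _ hsg
    refine ⟨γ, s, a, funext hγ, hs, ha, ?_⟩
    rw [← ker_residue, ← mapV_eq_zero, mapV_sub, mapV_smul, hag, show mapV ρ γ = g from funext hγ, sub_self]
  choose γ s a hγ hs ha hδ using hlift
  let δ : G → Vec D n r := fun g => s g • γ g - a g
  -- a finitely generated ring of coefficients
  let cs : Vec D n r → Finset D := fun v => Finset.univ.biUnion fun i => (v i).support.image fun m => coeff m (v i)
  let F0 : Finset D := hR.toFinset.biUnion cs ∪ Finset.univ.biUnion (fun g : G => cs (γ g) ∪ cs (δ g))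
  let R0 := Algebra.adjoin ℤ (F0 : Set D)
  have hcs : ∀ v, cs v ⊆ F0 → ∀ i m, coeff m (v i) ∈ R0 := by
    intro v hv i m
    by_cases h : m ∈ (v i).support
    · exact Algebra.subset_adjoin (hv (Finset.mem_biUnion.2 ⟨i, Finset.mem_univ _, Finset.mem_image.2 ⟨m, h, rfl⟩⟩))
    · rw [notMem_support_iff.1 h]; exact zero_mem _
  have hR0 : ∀ v ∈ R, ∀ i m, coeff m (v i) ∈ R0 := fun v hv => hcs v fun x hx =>
    Finset.mem_union_left _ (Finset.mem_biUnion.2 ⟨v, hR.mem_toFinset.2 hv, hx⟩)
  have hγ0 : ∀ g i m, coeff m (γ g i) ∈ R0 := fun g => hcs _ fun x hx =>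
    Finset.mem_union_right _ (Finset.mem_biUnion.2 ⟨g, Finset.mem_univ _, Finset.mem_union_left _ hx⟩)
  have hδ0 : ∀ g i m, coeff m (δ g i) ∈ R0 := fun g => hcs _ fun x hx =>
    Finset.mem_union_right _ (Finset.mem_biUnion.2 ⟨g, Finset.mem_univ _, Finset.mem_union_right _ hx⟩)
  haveI : Algebra.FiniteType ℤ R0 := (Subalgebra.fg_iff_finiteType R0).1 (Subalgebra.fg_adjoin_finset F0)
  haveI : IsNoetherianRing R0 := Algebra.FiniteType.isNoetherianRing ℤ R0
  let p0 : Ideal R0 := (maximalIdeal D).comap R0.val.toRingHom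
  obtain ⟨Fp, hFp⟩ : p0.FG := IsNoetherian.noetherian p0
  obtain ⟨c, hc0, hc⟩ := hann (Fp.image fun x : R0 => (x : D)) fun d hd => by
    obtain ⟨x, hx, rfl⟩ := Finset.mem_image.1 hd
    exact (hFp ▸ Ideal.subset_span hx : x ∈ p0)
  have hp0c : ∀ x ∈ p0, (x : D) * c = 0 := by
    intro x hx
    rw [← hFp] at hx
    induction hx using Submodule.span_induction with
    | mem y hy => exact hc _ (Finset.mem_image.2 ⟨y, hy, rfl⟩)
    | zero => simp
    | add y z _ _ hy hz => push_cast; rw [add_mul, hy, hz, add_zero]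
    | smul w y _ hy => show ((w * y : R0) : D) * c = 0; push_cast; rw [mul_assoc, hy, mul_zero]
  let J : Ideal D := LinearMap.ker (LinearMap.toSpanSingleton D D c)
  have hJ : ∀ x, x ∈ J ↔ x * c = 0 := fun x => Iff.rfl
  have hJtop : J ≠ ⊤ := fun h => hc0 (by simpa using (hJ 1).1 (h ▸ Submodule.mem_top))
  haveI : Nontrivial (D ⧸ J) := Ideal.Quotient.nontrivial_iff.2 hJtop
  haveI : IsLocalRing (D ⧸ J) := IsLocalRing.of_surjective' _ Ideal.Quotient.mk_surjective
  let π := Ideal.Quotient.mk J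
  let ψ : D ⧸ J →+* ResidueField D :=
    Ideal.Quotient.lift J ρ fun x hx => Ideal.Quotient.eq_zero_iff_mem.2 (le_maximalIdeal hJtop hx)
  have hψπ : ψ.comp π = ρ := RingHom.ext fun x => rfl
  have hmψ : ∀ {v : Vec D n r}, mapV ψ (mapV π v) = mapV ρ v := fun {v} => funext fun i => by
    rw [mapV, mapV, MvPolynomial.map_map, hψπ]; rfl
  haveI : p0.IsPrime := Ideal.comap_isPrime _ _
  let L := FractionRing (R0 ⧸ p0)
  have hp0J : ∀ x ∈ p0, (π.comp R0.val.toRingHom) x = 0 := fun x hx =>
    Ideal.Quotient.eq_zero_iff_mem.2 (hp0c x hx)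
  let θ₀ : R0 ⧸ p0 →+* D ⧸ J := Ideal.Quotient.lift p0 (π.comp R0.val.toRingHom) hp0J
  have hθ₀ : ∀ y : nonZeroDivisors (R0 ⧸ p0), IsUnit (θ₀ y) := by
    rintro ⟨y, hy⟩
    obtain ⟨x, rfl⟩ := Ideal.Quotient.mk_surjective y
    have hx : (x : D) ∉ maximalIdeal D := fun h => nonZeroDivisors.ne_zero hy
      (Ideal.Quotient.eq_zero_iff_mem.2 (show x ∈ p0 from h))
    exact (notMem_maximalIdeal.1 hx).map π
  let θ : L →+* D ⧸ J := IsLocalization.lift hθ₀
  letI : Algebra L (D ⧸ J) := θ.toAlgebra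
  have hdef : ∀ v : Vec D n r, (∀ i m, coeff m (v i) ∈ R0) →
      ∃ w : Vec L n r, mapV (algebraMap L (D ⧸ J)) w = mapV π v := by
    intro v hv
    refine ⟨fun i => ∑ m ∈ (v i).support,
      monomial m (algebraMap (R0 ⧸ p0) L (Ideal.Quotient.mk p0 ⟨coeff m (v i), hv i m⟩)), funext fun i => ?_⟩
    simp only [mapV, map_sum, map_monomial]
    conv_rhs => rw [as_sum (v i), map_sum]
    refine Finset.sum_congr rfl fun m _ => ?_
    rw [map_monomial]
    congr 1
    exact IsLocalization.lift_eq hθ₀ _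
  choose lR hlR using fun v : R => hdef v (hR0 v v.2)
  choose lγ hlγ using fun g : G => hdef (γ g) (hγ0 g)
  let S := Submodule.span (MvPolynomial (Fin n) (D ⧸ J)) (mapV π '' (R ∪ Set.range γ))
  have hS : mapV (algebraMap L (D ⧸ J)) '' (Set.range lR ∪ Set.range lγ) = mapV π '' (R ∪ Set.range γ) := by
    rw [Set.image_union, Set.image_union, ← Set.range_comp, ← Set.range_comp, ← Set.range_comp]
    congr 1
    · ext x
      constructor
      · rintro ⟨v, rfl⟩; exact ⟨v, v.2, (hlR v).symm⟩
      · rintro ⟨v, hv, rfl⟩; exact ⟨⟨v, hv⟩, hlR _⟩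
    · exact congrArg Set.range (funext hlγ)
  haveI hfree : Module.Free (D ⧸ J) (Vec (D ⧸ J) n r ⧸ S) := by
    have := free_quotient (D' := D ⧸ J) (Set.range lR ∪ Set.range lγ)
    rwa [hS] at this
  -- elements outside the point act injectively
  have hmJ : ∀ x : D ⧸ J, x ∈ RingHom.ker ψ ↔ x ∈ maximalIdeal (D ⧸ J) := by
    intro x
    refine ⟨fun h => le_maximalIdeal (RingHom.ker_ne_top ψ) h, fun h => RingHom.mem_ker.2 ?_⟩
    obtain ⟨x, rfl⟩ := Ideal.Quotient.mk_surjective x
    exact Ideal.Quotient.eq_zero_iff_mem.2 (by_contra fun hx => h ((notMem_maximalIdeal.1 hx).map π))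
  have hinj : ∀ t, t ∉ Q → Function.Injective fun y : Vec (D ⧸ J) n r ⧸ S => map π t • y := by
    intro t ht
    let μ : (Vec (D ⧸ J) n r ⧸ S) →ₗ[D ⧸ J] (Vec (D ⧸ J) n r ⧸ S) := DistribSMul.toLinearMap _ _ (map π t)
    have hμ : Function.Injective (μ.lTensor (ResidueField (D ⧸ J))) := by
      refine (Groth.Agent.Lib.LocalFlat.SmulTop.lTensor_quotient_injective_iff (maximalIdeal (D ⧸ J)) μ).2
        fun y hy => ?_
      obtain ⟨v, rfl⟩ := Submodule.mkQ_surjective _ y
      obtain ⟨w, hw, hwv⟩ : ∃ w ∈ jv (maximalIdeal (D ⧸ J)), μ (S.mkQ v) = S.mkQ w := by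
        refine Submodule.smul_induction_on (p := fun z => ∃ w ∈ jv (maximalIdeal (D ⧸ J)), z = S.mkQ w) hy
          (fun x hx z _ => ?_) fun a b ⟨w, hw, hwa⟩ ⟨w', hw', hwb⟩ => ⟨w + w', add_mem hw hw', by rw [map_add, hwa, hwb]⟩
        obtain ⟨z, rfl⟩ := Submodule.mkQ_surjective _ z
        exact ⟨C x • z, C_smul_mem_jv hx z, by rw [map_smul, ← MvPolynomial.algebraMap_eq, algebraMap_smul]⟩
      have hS' : map π t • v - w ∈ S := by
        rw [← Submodule.Quotient.eq]; exact hwv
      have hK : map ρ t • mapV ψ v ∈ Γ := by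
        have h1 := mapV_mem_span ψ hS'
        have hw0 : mapV ψ w = 0 := (mapV_eq_zero ψ).2 (jv_mono (fun x hx => (hmJ x).2 hx) hw)
        rw [mapV_sub, mapV_smul, hw0, sub_zero, MvPolynomial.map_map, hψπ] at h1
        refine (Submodule.span_le.2 ?_ : Submodule.span _ _ ≤ Γ) h1
        rintro _ ⟨_, ⟨z, hz, rfl⟩, rfl⟩
        rw [hmψ]
        rcases hz with hz | ⟨g, rfl⟩
        · exact ⟨1, fun h => (Ideal.IsPrime.ne_top inferInstance : Q ≠ ⊤) ((Ideal.eq_top_iff_one Q).2 h),
            by rw [map_one, one_smul]; exact Submodule.subset_span ⟨z, hz, rfl⟩⟩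
        · rw [hγ]; exact hGΓ g
      obtain ⟨t', ht', hK⟩ := hK
      have hv : mapV ψ v ∈ Γ := ⟨t' * t, fun h => (Ideal.IsPrime.mem_or_mem inferInstance h).elim ht' ht,
        by rw [map_mul, mul_smul]; exact hK⟩
      rw [← hG] at hv
      have key : ∀ z ∈ Submodule.span (MvPolynomial (Fin n) (ResidueField D)) (G : Set (Vec (ResidueField D) n r)),
          ∃ b ∈ S, mapV ψ b = z := by
        intro z hz
        induction hz using Submodule.span_induction with
        | mem x hx => exact ⟨mapV π (γ ⟨x, hx⟩), Submodule.subset_span ⟨_, Or.inr ⟨_, rfl⟩, rfl⟩, by rw [hmψ, hγ]⟩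
        | zero => exact ⟨0, zero_mem _, mapV_zero _⟩
        | add a b _ _ ha hb =>
          obtain ⟨a', ha, rfl⟩ := ha
          obtain ⟨b', hb, rfl⟩ := hb
          exact ⟨a' + b', add_mem ha hb, mapV_add _ _ _⟩
        | smul p a _ ha =>
          obtain ⟨a', ha, rfl⟩ := ha
          obtain ⟨p', rfl⟩ := map_surjective ψ (Ideal.Quotient.lift_surjective_of_surjective J _ residue_surjective) p
          exact ⟨p' • a', Submodule.smul_mem _ _ ha, mapV_smul _ _ _⟩
      obtain ⟨b, hb, hbv⟩ := key _ hv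
      have hvb : v - b ∈ jv (maximalIdeal (D ⧸ J)) :=
        jv_mono (fun x hx => (hmJ x).1 hx) ((mapV_eq_zero ψ).1 (by rw [mapV_sub, hbv, sub_self]))
      have : S.mkQ v = S.mkQ (v - b) := by
        rw [map_sub, show S.mkQ b = 0 from (Submodule.Quotient.mk_eq_zero S).2 hb, sub_zero]
      rw [this]
      exact map_mem_smul hvb
    haveI : Module.Flat (D ⧸ J) (Vec (D ⧸ J) n r ⧸ S) := Module.Flat.of_free
    have h1 := Groth.Agent.Lib.LocalFlat.UnivInjective.rTensor_injective_of_free μ hμ (D ⧸ J)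
    intro y z hyz
    apply (TensorProduct.rid (D ⧸ J) (Vec (D ⧸ J) n r ⧸ S)).symm.injective
    apply h1
    simp only [TensorProduct.rid_symm_apply, LinearMap.rTensor_tmul]
    exact congrArg (· ⊗ₜ[D ⧸ J] (1 : D ⧸ J)) hyz
  obtain ⟨v, t, ht, hv⟩ := hdiv c hc0
  have hkill : ∀ d ∈ maximalIdeal D, π d • S.mkQ (mapV π v) = 0 := by
    intro d hd
    have h1 : Mem Q R ⊥ ((C c : MvPolynomial (Fin n) D) • ((C d : MvPolynomial (Fin n) D) • v)) := by
      have h2 := ((hm d hd).smul t).sub (hv.smul (C d : MvPolynomial (Fin n) D))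
      have : t • (C d : MvPolynomial (Fin n) D) • v₀ - (C d : MvPolynomial (Fin n) D) • (t • v₀ - (C c : MvPolynomial (Fin n) D) • v) = (C c : MvPolynomial (Fin n) D) • (C d : MvPolynomial (Fin n) D) • v := by
        rw [smul_sub, smul_comm t, sub_sub_cancel, smul_comm]
      rwa [this] at h2
    obtain ⟨w, hw, hwv⟩ := hflat c J (fun x hx => (hJ x).2 hx) _ h1
    apply hinj w hw
    simp only [smul_zero]
    obtain ⟨a', ha', b, hb, hab⟩ := Submodule.mem_sup.1 hwv
    rw [← algebraMap_smul (MvPolynomial (Fin n) (D ⧸ J)) (π d), ← map_smul, ← map_smul,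
      MvPolynomial.algebraMap_eq, ← map_C, ← mapV_smul, ← mapV_smul, ← hab, mapV_add,
      show mapV π b = 0 from (mapV_eq_zero π).2 (by rw [Ideal.mk_ker]; exact hb), add_zero]
    exact (Submodule.Quotient.mk_eq_zero S).2
      (Submodule.span_mono (Set.image_mono Set.subset_union_left) (mapV_mem_span π ha'))
  have hne : S.mkQ (mapV π v) ≠ 0 := by
    intro h0
    have h0' : mapV π v ∈ S := (Submodule.Quotient.mk_eq_zero S).1 h0
    have key : ∀ z ∈ S, ∃ b, mapV π b = z ∧ Mem Q R J b := by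
      intro z hz
      induction hz using Submodule.span_induction with
      | mem x hx =>
        obtain ⟨b, hb, rfl⟩ := hx
        refine ⟨b, rfl, ?_⟩
        rcases hb with hb | ⟨g, rfl⟩
        · exact ⟨1, fun h => (Ideal.IsPrime.ne_top inferInstance : Q ≠ ⊤) ((Ideal.eq_top_iff_one Q).2 h),
            by rw [one_smul]; exact Submodule.mem_sup_left (Submodule.subset_span hb)⟩
        · refine ⟨s g, hs g, ?_⟩
          rw [show s g • γ g = a g + δ g by simp [δ]]
          exact add_mem (Submodule.mem_sup_left (ha g)) (Submodule.mem_sup_right (mem_jv.2 fun i m =>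
            (hJ _).2 (hp0c ⟨_, hδ0 g i m⟩ (mem_jv.1 (hδ g) i m))))
      | zero => exact ⟨0, mapV_zero _, mem_of_mem_jv (zero_mem _)⟩
      | add a b _ _ ha hb =>
        obtain ⟨a', rfl, ha⟩ := ha
        obtain ⟨b', rfl, hb⟩ := hb
        exact ⟨a' + b', mapV_add _ _ _, ha.add hb⟩
      | smul p a _ ha =>
        obtain ⟨a', rfl, ha⟩ := ha
        obtain ⟨p', rfl⟩ := map_surjective π Ideal.Quotient.mk_surjective p
        exact ⟨p' • a', mapV_smul _ _ _, ha.smul _⟩
    obtain ⟨b, hb, hbM⟩ := key _ h0'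
    have hvM : Mem Q R J v := by
      have h1 : v - b ∈ jv J := by
        rw [← Ideal.mk_ker (I := J), ← mapV_eq_zero, mapV_sub, hb, sub_self]
      have := hbM.add (mem_of_mem_jv (R := R) h1)
      rwa [add_sub_cancel] at this
    obtain ⟨w, hw, hwv⟩ := hvM
    obtain ⟨a', ha', b', hb', hab⟩ := Submodule.mem_sup.1 hwv
    have h2 : Mem Q R ⊥ ((C c : MvPolynomial (Fin n) D) • v) := by
      refine ⟨w, hw, ?_⟩
      rw [smul_comm, ← hab, smul_add]
      refine add_mem (Submodule.mem_sup_left (Submodule.smul_mem _ _ ha')) (Submodule.mem_sup_right ?_)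
      exact C_smul_jv (fun x hx => by rw [mul_comm]; exact (hJ x).1 hx) hb'
    have h3 := hv.add h2
    rw [sub_add_cancel] at h3
    exact hv₀ (h3.of_smul ht)
  let bb := Module.Free.chooseBasis (D ⧸ J) (Vec (D ⧸ J) n r ⧸ S)
  obtain ⟨i, hi⟩ : ∃ i, bb.repr (S.mkQ (mapV π v)) i ≠ 0 := by
    by_contra! h
    exact hne (bb.repr.injective (Finsupp.ext fun i => by rw [h i, map_zero, Finsupp.zero_apply]))
  obtain ⟨x, hx⟩ := Ideal.Quotient.mk_surjective (bb.repr (S.mkQ (mapV π v)) i)
  refine ⟨x * c, fun h => hi ?_, fun d hd => ?_⟩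
  · rw [← hx, Ideal.Quotient.eq_zero_iff_mem]; exact (hJ x).2 h
  · have := congrArg (fun z => bb.repr z i) (hkill d hd)
    simp only [map_smul, Finsupp.smul_apply, smul_eq_mul, map_zero, Finsupp.zero_apply, ← hx] at this
    rw [← map_mul, Ideal.Quotient.eq_zero_iff_mem, hJ, mul_assoc] at this
    exact this

end Groth.Agent.H10.UInj.Socle
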